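import Cfsg.Agent.Lib.Chevalley.SylowTorus.WeylElem
import Cfsg.Agent.Lib.Chevalley.CoxeterTorus.Main

/-!
The action of the Weyl group on the coroots: `mat v = 1 + A C` gives `1 + C A` on the coroots, `C`
the Cartan matrix; in particular `mat v - 1` is divisible by `C`.
-/

set_option autoImplicit false

namespace CfsgLib.Chevalley.CoverTorus

open Tbl hiding X
open CoxeterTorus SylowTorus
open scoped Matrix

/-- The Cartan matrix of a table. -/
def cartanZ (T : Tbl) : Matrix (Fin T.rank) (Fin T.rank) ℤ := Matrix.of fun i j => T.ca i (T.simple j.val)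

variable {T : Tbl} (hT : T.Valid)
include hT

theorem ca_mulVec (i : Fin T.rank) (s : Fin T.n) :
    T.ca i s.val = (cartanZ T *ᵥ fun k : Fin T.rank => T.co s.val k.val) i := by
  rw [ca_eq hT s.2 i.2, list_sum_range]
  exact Finset.sum_congr rfl fun k _ => mul_comm _ _

/-- `mat v - 1` is a multiple of the Cartan matrix, supported on the fundamental roots involved. -/
theorem exists_delta (J : Set (Fin T.rank)) {v : Equiv.Perm (Fin T.n)}
    (hv : v ∈ Subgroup.closure (T.refP hT '' J)) :
    ∃ A : Matrix (Fin T.rank) (Fin T.rank) ℤ, mat T hT v = 1 + A * cartanZ T ∧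
      ∀ a, a ∉ J → ∀ k, A k a = 0 := by
  have hle : Subgroup.closure (T.refP hT '' J) ≤ T.WP hT :=
    (Subgroup.closure_le _).2 fun x ⟨j, _, hj⟩ => hj ▸ refP_mem hT j
  have hgen : ∀ i ∈ J, ∃ A : Matrix (Fin T.rank) (Fin T.rank) ℤ, mat T hT (T.refP hT i) = 1 + A * cartanZ T ∧
      ∀ a, a ∉ J → ∀ k, A k a = 0 := by
    intro i hi
    refine ⟨-Matrix.single i i 1, ?_, fun a ha k => ?_⟩
    · ext a k
      have := mat_refP_apply hT i (Pi.single a 1) k
      rw [Matrix.single_one_vecMul] at this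
      simp only [Matrix.row] at this
      rw [this, Matrix.neg_mul, Matrix.add_apply, Matrix.neg_apply, Matrix.one_apply, Pi.single_apply,
        Pi.single_apply]
      by_cases hai : a = i
      · subst hai
        simp [cartanZ, eq_comm, sub_eq_add_neg]
      · simp [hai, Ne.symm hai, eq_comm]
    · rw [Matrix.neg_apply, Matrix.single_apply_of_col_ne _ _ (fun e : i = a => ha (e ▸ hi)), neg_zero]
  induction hv using Subgroup.closure_induction with
  | mem x hx => obtain ⟨i, hi, rfl⟩ := hx; exact hgen i hi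
  | one => exact ⟨0, by rw [mat_one hT, zero_mul, add_zero], fun _ _ _ => rfl⟩
  | mul x y hx _ hx' hy' =>
    obtain ⟨A, hA, hA'⟩ := hx'
    obtain ⟨B, hB, hB'⟩ := hy'
    refine ⟨mat T hT x * B + A, ?_, fun a ha k => ?_⟩
    · rw [mat_mul hT (hle hx), hB, add_mul, mul_add, mul_one, mul_assoc]
      conv_lhs => arg 1; rw [hA]
      abel
    · rw [Matrix.add_apply, hA' a ha k, add_zero, Matrix.mul_apply]
      exact Finset.sum_eq_zero fun c _ => by rw [hB' a ha c, mul_zero]
  | inv x hx hx' =>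
    obtain ⟨A, hA, hA'⟩ := hx'
    refine ⟨-(mat T hT x⁻¹ * A), ?_, fun a ha k => ?_⟩
    · have h1 : mat T hT x⁻¹ * mat T hT x = 1 := by
        rw [← mat_mul hT (inv_mem (hle hx)), inv_mul_cancel, mat_one hT]
      rw [hA, mul_add, mul_one] at h1
      rw [neg_mul, mul_assoc, ← sub_eq_add_neg, eq_sub_iff_add_eq, h1]
    · rw [Matrix.neg_apply, Matrix.mul_apply, Finset.sum_eq_zero fun c _ => by rw [hA' a ha c, mul_zero],
        neg_zero]

theorem WP_eq_closure : T.WP hT = Subgroup.closure (T.refP hT '' Set.univ) := by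
  rw [Set.image_univ]; rfl

/-- The action on coroots. -/
theorem exists_coweight {v : Equiv.Perm (Fin T.n)} (hv : v ∈ T.WP hT) :
    ∃ N : Matrix (Fin T.rank) (Fin T.rank) ℤ, cartanZ T * mat T hT v = N * cartanZ T ∧
      N.charpoly = (mat T hT v).charpoly := by
  obtain ⟨A, hA, -⟩ := exists_delta hT Set.univ (WP_eq_closure hT ▸ hv)
  refine ⟨1 + cartanZ T * A, by rw [hA, mul_add, add_mul, mul_one, one_mul, mul_assoc], ?_⟩
  have h : ∀ B : Matrix (Fin T.rank) (Fin T.rank) ℤ, (1 + B).charpoly =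
      B.charpoly.comp (Polynomial.X + Polynomial.C (-1 : ℤ)) := fun B => by
    rw [← Matrix.charpoly_sub_scalar]
    congr 1
    ext i j
    by_cases hij : i = j <;> simp [hij, Matrix.one_apply, add_comm]
  rw [h, hA, h, Matrix.charpoly_mul_comm]

variable {K : Type*} [Field K]

/-- The coroot action translates into the action on characters. -/
theorem tCh_powMat {v : Equiv.Perm (Fin T.n)} (hv : v ∈ T.WP hT) {N : Matrix (Fin T.rank) (Fin T.rank) ℤ}
    (hN : cartanZ T * mat T hT v = N * cartanZ T) (M : ℕ → ℕ → ℤ)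
    (hM : ∀ i j : Fin T.rank, M i j = N i j) (f : Fin T.rank → Kˣ) (s : Fin T.n) :
    tCh T (powMat T.rank M f) s.val = tCh T f (v s).val := by
  simp only [tCh]
  have h1 : ∀ k : Fin T.rank, powMat T.rank M f k ^ T.ca k s.val =
      ∏ i : Fin T.rank, f i ^ (N i k * T.ca k s.val) := by
    intro k
    show (∏ i : Fin T.rank, f i ^ M i k) ^ T.ca k s.val = _
    rw [← Finset.prod_zpow]
    exact Finset.prod_congr rfl fun i _ => by rw [hM, ← _root_.zpow_mul]
  rw [Finset.prod_congr rfl fun k _ => h1 k, Finset.prod_comm]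
  refine Finset.prod_congr rfl fun i _ => ?_
  rw [← zpow_sum_eq]
  congr 1
  rw [ca_mulVec hT i (v s), ← mat_mulVec hT hv, Matrix.mulVec_mulVec, hN, ← Matrix.mulVec_mulVec]
  exact Finset.sum_congr rfl fun k _ => by rw [ca_mulVec hT k s]

end CfsgLib.Chevalley.CoverTorus
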