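import Cfsg.Agent.Lib.Chevalley.CoxeterTorus.Main
import Cfsg.Agent.Lib.Chevalley.SylowTorus.Eigen

/-!
Cyclicity of the twisted torus for a squarefree product of cyclotomic polynomials, and the divisibility of the
characteristic polynomial by `Φ_d` coming from an eigencharacter.
-/

set_option autoImplicit false

namespace CfsgLib.Chevalley.CoverTorus

open Tbl hiding X
open CoxeterTorus SylowTorus Polynomial
open scoped Matrix

/-- An eigencharacter of order `r` forces `Φ_d` into the characteristic polynomial. -/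
theorem eigen_dvd {T : Tbl} (hT : T.Valid) {A : Type*} [CommGroup A] {ζ : A} {r : ℕ} [Fact r.Prime]
    (hζ : orderOf ζ = r) (hW : r.Coprime (Nat.card (T.WP hT))) (a : Fin T.rank → ℤ)
    {v : Equiv.Perm (Fin T.n)} (hv : v ∈ T.WP hT) {q d : ℕ} (hq : IsPrimitiveRoot (q : ZMod r) d)
    (hrd : ¬ r ∣ d) (hnz : ∃ s : Fin T.n, ζ ^ val T a s.val ≠ 1)
    (hrel : ∀ s : Fin T.n, ζ ^ val T a (v s).val = (ζ ^ val T a s.val) ^ q) :
    cyclotomic d ℤ ∣ (mat T hT v).charpoly := by
  classical
  set M := mat T hT v with hM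
  have hN : M ^ orderOf v = 1 := by rw [hM, ← mat_pow hT hv, pow_orderOf_eq_one, mat_one]
  have hrN : ¬ r ∣ orderOf v := fun h => (Fact.out : r.Prime).ne_one (Nat.eq_one_of_dvd_coprimes hW dvd_rfl
    (h.trans (Subgroup.orderOf_dvd_natCard _ hv)))
  have heig : (fun j => (a j : ZMod r)) ᵥ* M.map (Int.castRingHom (ZMod r)) =
      (q : ZMod r) • fun j => (a j : ZMod r) := by
    rw [cast_vecMul]
    funext k
    have h1 := hrel (T.simpF hT k)
    rw [← zpow_natCast, ← _root_.zpow_mul, val_perm hT hv, show (T.simpF hT k).val = T.simple k.val from rfl,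
      val_simple hT, val_simple hT, zpow_eq_zpow_iff_modEq, hζ, ← ZMod.intCast_eq_intCast_iff] at h1
    rw [Pi.smul_apply, smul_eq_mul, h1]
    push_cast
    ring
  have ha0 : (fun j => (a j : ZMod r)) ≠ 0 := by
    obtain ⟨s, hs⟩ := hnz
    intro h0
    refine hs ?_
    rw [val, dotProduct, zpow_sum_eq]
    refine Finset.prod_eq_one fun j _ => ?_
    obtain ⟨k, hk⟩ := (ZMod.intCast_zmod_eq_zero_iff_dvd _ _).1 (congrFun h0 j)
    rw [hk, mul_assoc, _root_.zpow_mul, zpow_natCast, ← hζ, pow_orderOf_eq_one, _root_.one_zpow]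
  have h := cyclotomic_pow_dvd (a := 0) M hN hrN hq hrd (by
    rw [pow_zero, Finite.one_lt_card_iff_nontrivial]
    exact ⟨⟨⟨_, heig⟩, ⟨0, by simp⟩, fun e => ha0 (congrArg Subtype.val e)⟩⟩)
  rwa [pow_one] at h

/-- The kernel of `M - q` modulo `E` for a squarefree product of cyclotomic polynomials. -/
theorem sol_cyclic_list {r : ℕ} (M : Matrix (Fin r) (Fin r) ℤ) {L : List ℕ} (hL : L.Nodup) {q E P : ℕ}
    (hc : M.charpoly = (L.map fun k => cyclotomic k ℤ).prod) (hP : M.charpoly.eval (q : ℤ) = (P : ℤ))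
    (hP0 : P ≠ 0) (hE : E ≠ 0) (hPE : P ∣ E)
    (hsq : ∀ p : ℕ, p.Prime → p ^ 2 ∣ P → ¬ p ∣ q ∧ ∀ k ∈ L, ¬ p ∣ k) :
    IsAddCyclic (sol E (M - (q : ℤ) • 1)) ∧ Nat.card (sol E (M - (q : ℤ) • 1)) = P := by
  classical
  have : NeZero E := ⟨hE⟩
  set B := M - (q : ℤ) • (1 : Matrix (Fin r) (Fin r) ℤ) with hB
  have hdet : B.det = (-1) ^ r * (P : ℤ) := by
    rw [show B = -(Matrix.scalar (Fin r) (q : ℤ) - M) by
      rw [neg_sub, hB, Matrix.smul_one_eq_diagonal]; rfl, Matrix.det_neg,
      ← Matrix.eval_charpoly, hP, Fintype.card_fin]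
  have hcard : Nat.card (sol E B) = P := by
    rw [card_sol B hE (by rw [hdet]; simp [hP0]) ?_, hdet, Int.natAbs_mul, Int.natAbs_pow]
    · simp
    · rw [hdet]
      rcases neg_one_pow_eq_or ℤ r with h | h <;> rw [h]
      · simpa using Int.natCast_dvd_natCast.2 hPE
      · simpa using Int.natCast_dvd_natCast.2 hPE
  refine ⟨?_, hcard⟩
  refine isAddCyclic_of_prime_torsion fun p hp => ?_
  have : Fact p.Prime := ⟨hp⟩
  set T := (nsmulAddMonoidHom (α := sol E B) p).ker
  have hpg : ∃ k, Nat.card T = p ^ k := by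
    refine IsPGroup.exists_card_eq (p := p) (G := Multiplicative T) (fun x => ⟨1, ?_⟩)
    rw [pow_one]
    have hx : p • ((Multiplicative.toAdd x : T) : sol E B) = 0 := (Multiplicative.toAdd x : T).2
    exact Multiplicative.toAdd.injective (Subtype.ext (by simpa using hx))
  obtain ⟨k, hk⟩ := hpg
  rcases Nat.lt_or_ge k 2 with hk2 | hk2
  · calc Nat.card T = p ^ k := hk
      _ ≤ p ^ 1 := Nat.pow_le_pow_right hp.pos (by omega)
      _ = p := pow_one p
  have hp2 : p ^ 2 ∣ P := by
    rw [← hcard]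
    exact ((pow_dvd_pow p hk2).trans hk.symm.dvd).trans (AddSubgroup.card_addSubgroup_dvd_card T)
  obtain ⟨hpq, hpL⟩ := hsq p hp hp2
  obtain ⟨R, hR⟩ : p ∣ E := ((dvd_pow_self p two_ne_zero).trans hp2).trans hPE
  have hR0 : 0 < R := Nat.pos_of_ne_zero fun h => hE (by rw [hR, h, mul_zero])
  -- the reduced kernel
  set Mp := Matrix.toLin' (M.map (Int.castRingHom (ZMod p)))ᵀ with hMp
  have hdim : Module.finrank (ZMod p) (Module.End.eigenspace Mp (q : ZMod p)) ≤ 1 := by
    refine (LinearMap.finrank_eigenspace_le Mp _).trans ?_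
    rw [hMp, Matrix.charpoly_toLin', Matrix.charpoly_transpose, Matrix.charpoly_map, hc]
    have hq0 : (q : ZMod p) ≠ 0 := fun h => hpq ((ZMod.natCast_eq_zero_iff q p).1 h)
    have hd0 : ¬ p ∣ orderOf (q : ZMod p) := fun h => by
      have h1 := Nat.le_of_dvd (by have := hp.two_le; omega) (h.trans (ZMod.orderOf_dvd_card_sub_one hq0))
      have := hp.two_le
      omega
    exact (rootMultiplicity_prod (IsPrimitiveRoot.orderOf _) hd0 L hpL).trans
      (List.nodup_iff_count_le_one.1 hL _)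
  have hle : Nat.card (Module.End.eigenspace Mp (q : ZMod p)) ≤ p := by
    rw [Module.natCard_eq_pow_finrank (K := ZMod p), Nat.card_zmod]
    exact (Nat.pow_le_pow_right hp.pos hdim).trans (pow_one p).le
  refine le_trans ?_ hle
  have hlift : ∀ x : T, ∀ i, R ∣ (((x : sol E B) : Fin r → ZMod E) i).val := by
    intro x i
    have hx : p • ((x : sol E B) : Fin r → ZMod E) = 0 := congrArg Subtype.val x.2
    have h1 : ((p * (((x : sol E B) : Fin r → ZMod E) i).val : ℕ) : ZMod E) = 0 := by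
      rw [Nat.cast_mul, ZMod.natCast_zmod_val, ← nsmul_eq_mul]
      exact congrFun hx i
    rw [ZMod.natCast_eq_zero_iff] at h1
    exact Nat.dvd_of_mul_dvd_mul_left hp.pos (hR.symm.dvd.trans h1)
  choose z hz using fun x : T => fun i => hlift x i
  refine Nat.card_le_card_of_injective (fun x : T => (⟨fun i => (z x i : ZMod p), ?_⟩ :
    Module.End.eigenspace Mp (q : ZMod p))) fun x y hxy => ?_
  · rw [Module.End.mem_eigenspace_iff, hMp, Matrix.toLin'_apply, Matrix.mulVec_transpose]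
    let Z : Fin r → ℤ := fun i => (z x i : ℤ)
    have hx : ((x : sol E B) : Fin r → ZMod E) ᵥ* B.map (Int.castRingHom (ZMod E)) = 0 := (x : sol E B).2
    have hxe : ((x : sol E B) : Fin r → ZMod E) = fun i => (((R : ℤ) • Z) i : ZMod E) := funext fun i => by
      conv_lhs => rw [← ZMod.natCast_zmod_val (((x : sol E B) : Fin r → ZMod E) i), hz x i]
      simp [Z]
    rw [hxe, cast_vecMul] at hx
    funext k
    have h1 := (ZMod.intCast_zmod_eq_zero_iff_dvd _ _).1 (congrFun hx k)
    rw [Matrix.smul_vecMul, Pi.smul_apply, smul_eq_mul, hR, Nat.cast_mul, mul_comm (p : ℤ)] at h1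
    have h2 : (((Z ᵥ* B) k : ℤ) : ZMod p) = 0 :=
      (ZMod.intCast_zmod_eq_zero_iff_dvd _ _).2 (Int.dvd_of_mul_dvd_mul_left (by exact_mod_cast hR0.ne') h1)
    rw [hB, Matrix.vecMul_sub, Matrix.vecMul_smul, Matrix.vecMul_one, Pi.sub_apply, Pi.smul_apply,
      smul_eq_mul, Int.cast_sub, sub_eq_zero] at h2
    have h3 := congrFun (cast_vecMul p Z M) k
    simp only [Z, Int.cast_natCast] at h3
    rw [h3, h2]
    simp [Z]
  · refine Subtype.ext (Subtype.ext (funext fun i => ?_))
    have h1 := congrFun (congrArg Subtype.val hxy) i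
    have h2 : z x i = z y i := by
      have hb : ∀ w : T, z w i < p := fun w => by
        by_contra hge
        have h3 := ZMod.val_lt (((w : sol E B) : Fin r → ZMod E) i)
        rw [hz w i, hR, mul_comm p R] at h3
        exact hge (Nat.lt_of_mul_lt_mul_left h3)
      have := (ZMod.natCast_eq_natCast_iff' _ _ p).1 h1
      rwa [Nat.mod_eq_of_lt (hb x), Nat.mod_eq_of_lt (hb y)] at this
    rw [← ZMod.natCast_zmod_val (((x : sol E B) : Fin r → ZMod E) i),
      ← ZMod.natCast_zmod_val (((y : sol E B) : Fin r → ZMod E) i), hz x i, hz y i, h2]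

end CfsgLib.Chevalley.CoverTorus
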