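import Cfsg.Agent.Lib.Chevalley.CoverTorus.Plane

/-!
Weyl group elements of type E6 with an eigenvalue of order twelve: the characteristic polynomial and
the regularity of the eigenvectors.
-/

set_option autoImplicit false

namespace CfsgLib.Chevalley.CoverTorus

open Tbl hiding X
open CoxeterTorus SylowTorus Polynomial
open scoped Matrix

theorem dvd_twelve {k : ℕ} (hk : 0 < k) (h : k.totient ≤ 2) : k ∣ 12 := by
  refine (Nat.dvd_iff_prime_pow_dvd_dvd _ _).2 fun p i hp hi => ?_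
  rcases Nat.eq_zero_or_pos i with rfl | hi0
  · simp
  have h1 : (p ^ i).totient ≤ 2 :=
    le_trans (Nat.le_of_dvd (Nat.totient_pos.2 hk) (Nat.totient_dvd_of_dvd hi)) h
  rw [Nat.totient_prime_pow hp hi0] at h1
  have hp3 : p ≤ 3 := by
    have h2 : p - 1 ≤ p ^ (i - 1) * (p - 1) := Nat.le_mul_of_pos_left _ (pow_pos hp.pos _)
    omega
  have := hp.two_le
  interval_cases p
  · have hi2 : i ≤ 2 := by
      by_contra hi3
      have h3 : 2 ^ 2 ≤ 2 ^ (i - 1) := Nat.pow_le_pow_right (by norm_num) (by omega)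
      simp at h1
      omega
    exact (Nat.pow_dvd_pow 2 hi2).trans (by norm_num)
  · have hi1 : i ≤ 1 := by
      by_contra hi2
      have h3 : 3 ^ 1 ≤ 3 ^ (i - 1) := Nat.pow_le_pow_right (by norm_num) (by omega)
      simp at h1
      omega
    exact (Nat.pow_dvd_pow 3 hi1).trans (by norm_num)

theorem cyclotomic_twelve : cyclotomic 12 ℤ = X ^ 4 - X ^ 2 + 1 := by
  rw [show (12 : ℕ) = 6 * 2 from rfl, ← cyclotomic_expand_eq_cyclotomic Nat.prime_two (by norm_num), cyclotomic_six]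
  simp [expand_X, ← pow_mul]

theorem cyclotomic_four : cyclotomic 4 ℤ = X ^ 2 + 1 := by
  rw [show (4 : ℕ) = 2 * 2 from rfl, ← cyclotomic_expand_eq_cyclotomic Nat.prime_two (by norm_num), cyclotomic_two]
  simp

theorem prod_dvd_pow {Q : ℤ[X]} : ∀ L : List ℕ, (∀ k ∈ L, cyclotomic k ℤ ∣ Q) →
    (L.map fun k => cyclotomic k ℤ).prod ∣ Q ^ L.length := by
  intro L
  induction L with
  | nil => simp
  | cons k L ih =>
    intro h
    rw [List.forall_mem_cons] at h
    rw [List.map_cons, List.prod_cons, List.length_cons, pow_succ']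
    exact mul_dvd_mul h.1 (ih h.2)

theorem fix_conj {l : ℕ} {G G' M : Matrix (Fin l) (Fin l) ℤ} (hGG : G * G' = 1) {e : Fin l → ℤ}
    (h : e ᵥ* (G' * M * G) = e) : (e ᵥ* G') ᵥ* M = e ᵥ* G' := by
  have h2 := congrArg (· ᵥ* G') h
  simp only [Matrix.vecMul_vecMul, mul_assoc, hGG, mul_one] at h2
  rw [Matrix.vecMul_vecMul]
  exact h2

theorem fix_sq {l : ℕ} (M : Matrix (Fin l) (Fin l) ℤ) (hQ : (M ^ 2 - 1) * (M ^ 4 - M ^ 2 + 1) = 0)
    {b : Fin l → ℤ} (h6 : b ᵥ* M ^ 6 = b) : b ᵥ* M ^ 2 = b := by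
  have h7 : (M ^ 6 + 1) * (M ^ 2 - 1) = 0 := by
    rw [show (M ^ 6 + 1) * (M ^ 2 - 1) = (M ^ 2 - 1) * (M ^ 4 - M ^ 2 + 1) * (M ^ 2 + 1) by noncomm_ring, hQ,
      zero_mul]
  have h8 := congrArg (fun A => b ᵥ* A) h7
  simp only [← Matrix.vecMul_vecMul, Matrix.vecMul_add, Matrix.vecMul_one, h6, Matrix.vecMul_zero,
    Matrix.vecMul_sub, Matrix.add_vecMul] at h8
  funext k
  have := congrFun h8 k
  simp only [Pi.sub_apply, Pi.add_apply, Pi.zero_apply] at this
  omega

theorem conj_quad {R : Type*} [Ring R] (G G' M : R) (h1 : G' * G = 1) (h2 : G * G' = 1)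
    (hQ : (M ^ 2 - 1) * (M ^ 4 - M ^ 2 + 1) = 0) :
    (G' * M ^ 2 * G - 1) * (G' * M ^ 2 * G * (G' * M ^ 2 * G) - G' * M ^ 2 * G + 1) = 0 := by
  have e : ∀ A B : R, G' * A * G * (G' * B * G) = G' * (A * B) * G := fun A B => by
    calc _ = G' * A * (G * G') * B * G := by simp only [mul_assoc]
      _ = _ := by rw [h2, mul_one, mul_assoc G' A B]
  rw [e, show G' * M ^ 2 * G - 1 = G' * (M ^ 2 - 1) * G by rw [mul_sub, sub_mul, mul_one, h1],
    show G' * (M ^ 2 * M ^ 2) * G - G' * M ^ 2 * G + 1 = G' * (M ^ 4 - M ^ 2 + 1) * G by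
      rw [mul_add, mul_sub, add_mul, sub_mul, mul_one, h1, ← pow_add], e, hQ, mul_zero, zero_mul]

namespace E6

open Data.E6

/-- The fundamental roots of the subsystem of type D4. -/
def J0 : Finset (Fin tbl.rank) := Finset.univ.filter fun i => i.val ≠ 0 ∧ i.val ≠ 5

/-- The negator of the subsystem of type D4. -/
def zw : List (Fin tbl.rank) := negWord tbl J0 36

theorem word_check : ∀ J : Finset (Fin tbl.rank), 4 ≤ J.card →
    (∀ x ∈ negWord tbl J 36, x ∈ J) ∧
      (∀ j ∈ J, wapp tbl ((negWord tbl J 36).map Fin.val) (tbl.simple j.val) < tbl.half) ∧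
      ((∀ j ∈ J, wapp tbl ((negWord tbl J 36).map Fin.val) (tbl.simple j.val) = tbl.neg (tbl.simple j.val)) →
        J = J0) := by
  decide +kernel

theorem zw_fixed : ∀ s : Fin tbl.n, ∃ j : Fin tbl.rank,
    tbl.co (wapp tbl (zw.map Fin.val) s.val) j.val ≠ tbl.co s.val j.val := by decide +kernel

theorem zw_mem : ∀ x ∈ zw, x ∈ J0 := by decide +kernel

theorem zw_neg : ∀ j ∈ J0, wapp tbl (zw.map Fin.val) (tbl.simple j.val) = tbl.neg (tbl.simple j.val) := by
  decide +kernel

theorem card_outside : (Finset.univ.filter fun i : Fin tbl.rank => i ∉ J0).card = 2 := by decide +kernel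

/-- A kernel vector of the Cartan matrix modulo three. -/
def c3 : Fin tbl.rank → ℤ := fun i => [1, 0, 2, 0, 1, 2].getD i.val 0

/-- A kernel vector of the Cartan matrix of D4 modulo two. -/
def c2 : Fin tbl.rank → ℤ := fun i => [0, 1, 1, 0, 0, 0].getD i.val 0

theorem c3_check : (∀ i : Fin tbl.rank, (3 : ℤ) ∣ (cartanZ tbl *ᵥ c3) i) ∧
    (fun i => (c3 i : ZMod 3)) ≠ 0 := by decide +kernel

theorem c2_check : (∀ i ∈ J0, (2 : ℤ) ∣ (cartanZ tbl *ᵥ c2) i) ∧
    (∀ i, i ∉ J0 → c2 i = 0) ∧ ∃ i, ¬ (2 : ℤ) ∣ c2 i := by decide +kernel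

/-- `det (1 - mat v)` is divisible by three. -/
theorem three_dvd_eval {v : Equiv.Perm (Fin tbl.n)} (hv : v ∈ tbl.WP valid) :
    (((mat tbl valid v).charpoly.eval 1 : ℤ) : ZMod 3) = 0 := by
  obtain ⟨A, hA, -⟩ := exists_delta valid Set.univ (WP_eq_closure valid ▸ hv)
  rw [Matrix.eval_charpoly, Int.cast_det]
  refine Matrix.exists_mulVec_eq_zero_iff.1 ⟨fun i => (c3 i : ZMod 3), c3_check.2, ?_⟩
  have h1 : ((Matrix.scalar (Fin tbl.rank)) (1 : ℤ) - mat tbl valid v) *ᵥ c3 = -(A *ᵥ (cartanZ tbl *ᵥ c3)) := by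
    rw [hA, map_one, sub_add_cancel_left, Matrix.neg_mulVec, Matrix.mulVec_mulVec]
  funext i
  have h2 := congrArg (fun z : Fin tbl.rank → ℤ => ((z i : ℤ) : ZMod 3)) h1
  have h3 : (((A *ᵥ (cartanZ tbl *ᵥ c3)) i : ℤ) : ZMod 3) = 0 := by
    refine (ZMod.intCast_zmod_eq_zero_iff_dvd _ _).2 ?_
    show (3 : ℤ) ∣ ∑ j, A i j * (cartanZ tbl *ᵥ c3) j
    exact Finset.dvd_sum fun j _ => dvd_mul_of_dvd_right (c3_check.1 j) _
  simp only [Pi.neg_apply, Int.cast_neg, h3, neg_zero] at h2
  rw [Pi.zero_apply, ← h2]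
  exact (RingHom.map_mulVec (Int.castRingHom (ZMod 3)) _ _ i).symm

/-- No element of `W(D4)` acts as a primitive sixth root of unity. -/
theorem no_six {u : Equiv.Perm (Fin tbl.n)} (hu : u ∈ Subgroup.closure (tbl.refP valid '' (J0 : Set (Fin tbl.rank))))
    (hk : (mat tbl valid u - 1) * (mat tbl valid u * mat tbl valid u - mat tbl valid u + 1) = 0)
    (h3 : u ^ 3 = tbl.pw valid zw) : False := by
  have hzJ : tbl.pw valid zw ∈ Subgroup.closure (tbl.refP valid '' (J0 : Set (Fin tbl.rank))) := by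
    refine list_prod_mem fun x hx => ?_
    obtain ⟨j, hj, rfl⟩ := List.mem_map.mp hx
    exact Subgroup.subset_closure ⟨j, zw_mem j hj, rfl⟩
  have hle : Subgroup.closure (tbl.refP valid '' (J0 : Set (Fin tbl.rank))) ≤ tbl.WP valid :=
    (Subgroup.closure_le _).2 fun x ⟨j, _, hj⟩ => hj ▸ refP_mem valid j
  obtain ⟨A, hA, hA'⟩ := exists_delta valid (J0 : Set (Fin tbl.rank)) hu
  set M := mat tbl valid u
  set Z := mat tbl valid (tbl.pw valid zw)
  have hMZ : M ^ 3 = Z := by rw [← mat_pow valid (hle hu), h3]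
  have hZc : Z *ᵥ c2 = -c2 := by
    conv_lhs => rw [pi_eq_sum_univ' c2]
    conv_rhs => rw [pi_eq_sum_univ' c2]
    rw [Matrix.mulVec_sum, ← Finset.sum_neg_distrib]
    refine Finset.sum_congr rfl fun i _ => ?_
    by_cases hi : i ∈ J0
    · rw [Matrix.mulVec_smul, mat_col valid (hle hzJ), ← smul_neg]
      congr 1
      funext k
      rw [pw_wapp valid, show (tbl.simpF valid i).val = tbl.simple i.val from rfl, zw_neg i hi,
        co_neg valid (simple_lt valid i.2) k.2, co_simple valid i.2 k.2, Pi.neg_apply, Pi.single_apply]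
      simp [Fin.ext_iff]
    · simp [c2_check.2.1 i hi]
  set y := (M * M - M + 1) *ᵥ c2 with hy
  have hMy : M *ᵥ y = y := by
    have := congrArg (· *ᵥ c2) hk
    simp only [← Matrix.mulVec_mulVec, Matrix.zero_mulVec, Matrix.sub_mulVec, Matrix.one_mulVec] at this
    exact sub_eq_zero.1 this
  have hy0 : y = 0 := by
    have h1 : Z *ᵥ y = y := by
      rw [← hMZ, pow_succ, pow_succ, pow_one, ← Matrix.mulVec_mulVec, ← Matrix.mulVec_mulVec, hMy, hMy, hMy]
    have h2 : Z *ᵥ y = -y := by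
      rw [hy, Matrix.mulVec_mulVec, show Z * (M * M - M + 1) = (M * M - M + 1) * Z by
        rw [← hMZ]; noncomm_ring, ← Matrix.mulVec_mulVec, hZc, Matrix.mulVec_neg]
    funext k
    have := congrFun (h1.symm.trans h2) k
    simp only [Pi.neg_apply, Pi.zero_apply] at this ⊢
    omega
  obtain ⟨i, hi⟩ := c2_check.2.2
  have hd : ∀ k, (2 : ℤ) ∣ (M *ᵥ c2) k - c2 k := by
    intro k
    rw [hA, Matrix.add_mulVec, Matrix.one_mulVec, Pi.add_apply, add_sub_cancel_left, ← Matrix.mulVec_mulVec]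
    show (2 : ℤ) ∣ ∑ j, A k j * (cartanZ tbl *ᵥ c2) j
    refine Finset.dvd_sum fun j _ => ?_
    by_cases hj : j ∈ J0
    · exact dvd_mul_of_dvd_right (c2_check.1 j hj) _
    · rw [hA' j hj k, zero_mul]; exact dvd_zero _
  have hd2 : ∀ k, (2 : ℤ) ∣ (M *ᵥ (M *ᵥ c2)) k - (M *ᵥ c2) k := by
    intro k
    rw [← Pi.sub_apply, ← Matrix.mulVec_sub]
    show (2 : ℤ) ∣ ∑ j, M k j * ((M *ᵥ c2) j - c2 j)
    exact Finset.dvd_sum fun j _ => dvd_mul_of_dvd_right (hd j) _
  refine hi ?_
  have h1 := congrFun (hy.symm.trans hy0) i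
  simp only [Matrix.add_mulVec, Matrix.sub_mulVec, Matrix.one_mulVec, Pi.add_apply, Pi.sub_apply, Pi.zero_apply,
    ← Matrix.mulVec_mulVec] at h1
  have := hd2 i
  omega

set_option maxHeartbeats 800000 in
/-- The characteristic polynomial, and the sixth power up to conjugation. -/
theorem shape {w : Equiv.Perm (Fin tbl.n)} (hw : w ∈ tbl.WP valid)
    (h : cyclotomic 12 ℤ ∣ (mat tbl valid w).charpoly) :
    (mat tbl valid w).charpoly = cyclotomic 12 ℤ * cyclotomic 3 ℤ ∧
      ∃ g ∈ tbl.WP valid, g⁻¹ * w ^ 6 * g = tbl.pw valid zw := by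
  classical
  have hr : tbl.rank = 6 := rfl
  have ht : (12 : ℕ).totient = 4 := by decide
  set M := mat tbl valid w with hMdef
  obtain ⟨p, hp⟩ := h
  have hpm : p.Monic := (cyclotomic.monic 12 ℤ).of_mul_monic_left (hp ▸ Matrix.charpoly_monic M)
  have hdeg : p.natDegree = 2 := by
    have := congrArg natDegree hp
    rw [(cyclotomic.monic 12 ℤ).natDegree_mul hpm, natDegree_cyclotomic, Matrix.charpoly_natDegree_eq_dim,
      Fintype.card_fin, hr, ht] at this
    omega
  obtain ⟨L, hLN, hL⟩ := exists_cyclotomic_list (orderOf_pos w) 2 p hdeg.le hpm fun z hz =>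
    root_pow_eq_one M (mat_orderOf valid hw) (by rw [hp, map_mul, hz, mul_zero])
  have hsum : (L.map Nat.totient).sum = 2 := by
    rw [← hdeg, hL]
    clear hL hLN
    induction L with
    | nil => simp
    | cons k L ih =>
      rw [List.map_cons, List.map_cons, List.prod_cons, List.sum_cons, ih, (cyclotomic.monic k ℤ).natDegree_mul
        (List.prod_induction Monic (fun _ _ ha hb => ha.mul hb) monic_one (by
          simp only [List.mem_map]; rintro _ ⟨i, -, rfl⟩; exact cyclotomic.monic i ℤ)), natDegree_cyclotomic]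
  have h12 : ∀ k ∈ L, k ∣ 12 := fun k hk => dvd_twelve
    (Nat.pos_of_dvd_of_pos (hLN k hk) (orderOf_pos w))
    (hsum ▸ List.le_sum_of_mem (List.mem_map_of_mem hk))
  have hM12 : M ^ 12 = 1 := by
    have h1 := aeval_kill valid hw (Q := X ^ 12 - 1) (k := 1 + L.length) (by omega) (by
      rw [hp, hL, pow_add, pow_one]
      exact mul_dvd_mul (cyclotomic.dvd_X_pow_sub_one 12 ℤ) (prod_dvd_pow L fun k hk =>
        (cyclotomic.dvd_X_pow_sub_one k ℤ).trans (by
          obtain ⟨c, hc⟩ := h12 k hk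
          rw [hc, pow_mul]
          exact sub_one_dvd_pow_sub_one _ c)))
    simp only [map_sub, map_pow, aeval_X, map_one] at h1
    exact sub_eq_zero.1 h1
  have hw6 : w ^ 6 ∈ tbl.WP valid := pow_mem hw 6
  have hM6 : mat tbl valid (w ^ 6) = M ^ 6 := mat_pow valid hw 6
  have hv2 : mat tbl valid (w ^ 6) * mat tbl valid (w ^ 6) = 1 := by rw [hM6, ← pow_add, hM12]
  obtain ⟨y, hy0, hyk⟩ := exists_row M (P := cyclotomic 12 ℤ) (by rw [natDegree_cyclotomic, ht]; norm_num)
    (cyclotomic.monic _ _) (hp ▸ dvd_mul_right _ _)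
  have hneg : ∀ i : ℕ, (y ᵥ* M ^ i) ᵥ* mat tbl valid (w ^ 6) = -(y ᵥ* M ^ i) := by
    intro i
    have h1 : M ^ 6 + 1 = aeval M (cyclotomic 12 ℤ) * (M ^ 2 + 1) := by
      rw [cyclotomic_twelve]
      simp only [map_add, map_sub, map_pow, aeval_X, map_one]
      noncomm_ring
    have h2 : y ᵥ* (M ^ 6 + 1) = 0 := by rw [h1, ← Matrix.vecMul_vecMul, hyk, Matrix.zero_vecMul]
    rw [Matrix.vecMul_add, Matrix.vecMul_one] at h2
    rw [hM6, Matrix.vecMul_vecMul, ← pow_add, add_comm, pow_add, ← Matrix.vecMul_vecMul,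
      eq_neg_of_add_eq_zero_left h2, Matrix.neg_vecMul]
  obtain ⟨g, hg, hgv⟩ := plane_case valid hw6 hv2 (k := (12 : ℕ).totient) (fun i => y ᵥ* M ^ (i : ℕ))
    (linearIndependent_rows M (by norm_num) hy0 hyk) (fun i => hneg i) J0 (fun J => negWord tbl J 36)
    (fun J hJ => word_check J (by rw [ht] at hJ; exact hJ))
  replace hgv : g⁻¹ * w ^ 6 * g = tbl.pw valid zw := hgv
  refine ⟨?_, g, hg, hgv⟩
  by_cases h4 : 4 ∈ L
  · exfalso
    obtain ⟨L1, L2, hL12⟩ := List.append_of_mem h4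
    have hnil : L1 = [] ∧ L2 = [] := by
      rw [hL12] at hsum hLN
      simp only [List.map_append, List.map_cons, List.sum_append, List.sum_cons, show (4 : ℕ).totient = 2 by decide]
        at hsum
      constructor <;>
      · refine List.eq_nil_iff_forall_not_mem.2 fun k hk => ?_
        have h1 := Nat.totient_pos.2 (Nat.pos_of_dvd_of_pos (hLN k (by simp [hk])) (orderOf_pos w))
        have h2 := List.le_sum_of_mem (List.mem_map_of_mem (f := Nat.totient) hk)
        omega
    have h1 := aeval_kill valid hw (Q := cyclotomic 12 ℤ * cyclotomic 4 ℤ) (k := 1) one_ne_zero (by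
      rw [hp, hL, hL12, hnil.1, hnil.2, pow_one]; simp)
    refine _root_.CfsgLib.Chevalley.SylowTorus.E6.no_neg hw6 ?_
    rw [hM6]
    refine eq_neg_of_add_eq_zero_left ?_
    rw [← h1, cyclotomic_twelve, cyclotomic_four]
    simp only [map_mul, map_add, map_sub, map_pow, aeval_X, map_one]
    noncomm_ring
  have hsingle : ∀ k ∈ L, k.totient = 2 → p = cyclotomic k ℤ := by
    intro k hk hkφ
    obtain ⟨L1, L2, hL12⟩ := List.append_of_mem hk
    rw [hL12] at hsum hLN
    simp only [List.map_append, List.map_cons, List.sum_append, List.sum_cons, hkφ] at hsum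
    have hnil : L1 = [] ∧ L2 = [] := by
      constructor <;>
      · refine List.eq_nil_iff_forall_not_mem.2 fun i hi => ?_
        have h1 := Nat.totient_pos.2 (Nat.pos_of_dvd_of_pos (hLN i (by simp [hi])) (orderOf_pos w))
        have h2 := List.le_sum_of_mem (List.mem_map_of_mem (f := Nat.totient) hi)
        omega
    rw [hL, hL12, hnil.1, hnil.2]
    simp
  by_cases h3 : 3 ∈ L
  · rw [hp, hsingle 3 h3 (by decide)]
  exfalso
  by_cases h6 : 6 ∈ L
  · have h1 := three_dvd_eval hw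
    rw [hp, hsingle 6 h6 (by decide), cyclotomic_twelve, cyclotomic_six] at h1
    simp at h1
  -- only roots `±1` besides
  have hpm1 : ∀ k ∈ L, cyclotomic k ℤ ∣ X ^ 2 - 1 := by
    intro k hk
    have hk2 : k ∣ 2 := by
      have hφ : k.totient ≤ 2 := hsum ▸ List.le_sum_of_mem (List.mem_map_of_mem hk)
      have h1 : k ∈ (12 : ℕ).divisors := Nat.mem_divisors.2 ⟨h12 k hk, by norm_num⟩
      have h2 : ∀ k ∈ (12 : ℕ).divisors, k.totient ≤ 2 → k ≠ 3 → k ≠ 4 → k ≠ 6 → k ∣ 2 := by decide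
      exact h2 k h1 hφ (fun e => h3 (e ▸ hk)) (fun e => h4 (e ▸ hk)) (fun e => h6 (e ▸ hk))
    refine (cyclotomic.dvd_X_pow_sub_one k ℤ).trans ?_
    obtain ⟨c, hc⟩ := hk2
    rw [hc, pow_mul]
    exact sub_one_dvd_pow_sub_one _ c
  have hQ : (M ^ 2 - 1) * (M ^ 4 - M ^ 2 + 1) = 0 := by
    have h1 := aeval_kill valid hw (Q := (X ^ 2 - 1) * cyclotomic 12 ℤ) (k := L.length + 1) (by omega) (by
      rw [hp, hL, mul_pow, mul_comm ((X ^ 2 - 1) ^ _)]
      exact mul_dvd_mul (dvd_pow_self _ (by omega)) ((prod_dvd_pow L hpm1).trans (pow_dvd_pow _ (by omega))))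
    rw [cyclotomic_twelve] at h1
    simpa only [map_mul, map_add, map_sub, map_pow, aeval_X, map_one] using h1
  set G := mat tbl valid g
  set G' := mat tbl valid g⁻¹
  have hGG : G * G' = 1 := by rw [← mat_mul valid hg, mul_inv_cancel, mat_one]
  have hGG' : G' * G = 1 := by rw [← mat_mul valid (inv_mem hg), inv_mul_cancel, mat_one]
  set u := g⁻¹ * w ^ 2 * g with hudef
  have hu : u ∈ tbl.WP valid := mul_mem (mul_mem (inv_mem hg) (pow_mem hw 2)) hg
  have hu3 : u ^ 3 = tbl.pw valid zw := by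
    rw [← hgv, hudef, show (6 : ℕ) = 2 * 3 from rfl, pow_mul]
    simp only [pow_succ, pow_zero, one_mul]
    group
  have hMu : mat tbl valid u = G' * M ^ 2 * G := by
    rw [hudef, mat_mul valid (mul_mem (inv_mem hg) (pow_mem hw 2)), mat_mul valid (inv_mem hg), mat_pow valid hw]
  have hzJ : tbl.pw valid zw ∈ Subgroup.closure (tbl.refP valid '' (J0 : Set (Fin tbl.rank))) := by
    refine list_prod_mem fun x hx => ?_
    obtain ⟨j, hj, rfl⟩ := List.mem_map.mp hx
    exact Subgroup.subset_closure ⟨j, zw_mem j hj, rfl⟩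
  have hMz : mat tbl valid (tbl.pw valid zw) = G' * M ^ 6 * G :=
    calc mat tbl valid (tbl.pw valid zw) = mat tbl valid (g⁻¹ * w ^ 6 * g) := congrArg _ hgv.symm
      _ = G' * M ^ 6 * G := by
        rw [mat_mul valid (mul_mem (inv_mem hg) hw6), mat_mul valid (inv_mem hg), hM6]
  refine no_six (mem_parabolic valid hu fun i hi => ?_) ?_ hu3
  · -- fixed functionals of the sixth power are fixed by the square
    have h1 := fix_single valid hzJ (i := i) hi
    rw [hMz] at h1
    rw [hMu, ← Matrix.vecMul_vecMul, ← Matrix.vecMul_vecMul, fix_sq M hQ (fix_conj hGG h1),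
      Matrix.vecMul_vecMul, hGG', Matrix.vecMul_one]
  · rw [hMu]
    exact conj_quad G G' M hGG' hGG hQ

/-- The eigenvectors for a primitive twelfth root of unity are regular. -/
theorem regular {A : Type*} [CommGroup A] {ζ : A} {r : ℕ} [Fact r.Prime] (hζ : orderOf ζ = r)
    (hW : r.Coprime (Nat.card (tbl.WP valid))) (hr2 : r ≠ 2) (a : Fin tbl.rank → ℤ)
    {w : Equiv.Perm (Fin tbl.n)} (hw : w ∈ tbl.WP valid)
    (hchar : cyclotomic 12 ℤ ∣ (mat tbl valid w).charpoly) {q : ℕ} (hq : ((q : ZMod r) ^ 6) = -1)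
    (hnz : ∃ s : Fin tbl.n, ζ ^ val tbl a s.val ≠ 1)
    (hrel : ∀ s : Fin tbl.n, ζ ^ val tbl a (w s).val = (ζ ^ val tbl a s.val) ^ q)
    (β : Fin tbl.n) : ζ ^ val tbl a β.val ≠ 1 := by
  intro hβ
  classical
  obtain ⟨hp, g, hg, hgv⟩ := shape hw hchar
  set M := mat tbl valid w with hMdef
  obtain ⟨μ, h1, h2⟩ := exists_average valid hζ hW a (stab tbl valid ζ a) (fun u hu => hu.1) fun u hu => hu.2
  have hiter : ∀ (i : ℕ) (s : Fin tbl.n), ζ ^ val tbl a ((w ^ i) s).val = (ζ ^ val tbl a s.val) ^ (q ^ i) := by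
    intro i s
    induction i with
    | zero => simp
    | succ i ih => rw [pow_succ', Equiv.Perm.mul_apply, hrel, ih, ← pow_mul, ← pow_succ]
  have hinv : ∀ s : Fin tbl.n, ζ ^ val tbl a ((w ^ 6) s).val = (ζ ^ val tbl a s.val)⁻¹ := by
    intro s
    rw [hiter, eq_inv_iff_mul_eq_one, ← pow_succ, ← zpow_natCast, ← _root_.zpow_mul]
    refine orderOf_dvd_iff_zpow_eq_one.1 ?_
    rw [hζ]
    refine dvd_mul_of_dvd_right ?_ _
    rw [← ZMod.intCast_zmod_eq_zero_iff_dvd]
    push_cast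
    rw [hq, neg_add_cancel]
  have hzero : ∀ β : Fin tbl.n, ζ ^ val tbl a β.val = 1 → val tbl μ β.val = 0 := by
    intro β hβ
    obtain ⟨u, hu, k, rfl⟩ := exists_simple_image valid β
    have hr : tbl.refP valid k ∈ tbl.WP valid := refP_mem valid k
    have hρ : u * tbl.refP valid k * u⁻¹ ∈ stab tbl valid ζ a := by
      refine ⟨mul_mem (mul_mem hu hr) (inv_mem hu), fun t => ?_⟩
      rw [Equiv.Perm.mul_apply, Equiv.Perm.mul_apply, val_perm valid hu, val_refP valid,
        _root_.zpow_sub, mul_comm (tbl.ca _ _), _root_.zpow_mul]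
      have hk : ζ ^ (a ᵥ* mat tbl valid u) k = 1 := by
        rw [← val_simple valid (a ᵥ* mat tbl valid u) k,
          show tbl.simple k.val = (tbl.simpF valid k).val from rfl, ← val_perm valid hu]
        exact hβ
      rw [hk, _root_.one_zpow, inv_one, mul_one, ← val_perm valid hu, ← Equiv.Perm.mul_apply, mul_inv_cancel,
        Equiv.Perm.one_apply]
    have h3 := h1 _ hρ (u (tbl.simpF valid k))
    rw [Equiv.Perm.mul_apply, Equiv.Perm.mul_apply, ← Equiv.Perm.mul_apply u⁻¹, inv_mul_cancel,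
      Equiv.Perm.one_apply, refP_simpF, WP_negF valid hu, val_negF valid] at h3
    omega
  set G := mat tbl valid g
  set G' := mat tbl valid g⁻¹
  have hGG : G * G' = 1 := by rw [← mat_mul valid hg, mul_inv_cancel, mat_one]
  have hGG' : G' * G = 1 := by rw [← mat_mul valid (inv_mem hg), inv_mul_cancel, mat_one]
  have hw6 : w ^ 6 ∈ tbl.WP valid := pow_mem hw 6
  have hM6 : mat tbl valid (w ^ 6) = M ^ 6 := mat_pow valid hw 6
  set z := tbl.pw valid zw
  have hzJ : z ∈ Subgroup.closure (tbl.refP valid '' (J0 : Set (Fin tbl.rank))) := by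
    refine list_prod_mem fun x hx => ?_
    obtain ⟨j, hj, rfl⟩ := List.mem_map.mp hx
    exact Subgroup.subset_closure ⟨j, zw_mem j hj, rfl⟩
  have hzW : z ∈ tbl.WP valid := pw_mem valid _
  have hMz : mat tbl valid z = G' * M ^ 6 * G := by
    rw [← hgv, mat_mul valid (mul_mem (inv_mem hg) hw6), mat_mul valid (inv_mem hg), hM6]
  -- the functional negated by the sixth power
  set μ' := μ - μ ᵥ* M ^ 6 with hμ'def
  have hval6 : ∀ s : Fin tbl.n, val tbl (μ ᵥ* M ^ 6) s.val = val tbl μ ((w ^ 6) s).val := fun s => by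
    rw [val_perm valid hw6, hM6]
  have hv2 : M ^ 6 * M ^ 6 = 1 := by
    have h3 := aeval_kill valid hw (Q := X ^ 12 - 1) (k := 2) (by norm_num) (by
      rw [hp, sq]
      exact mul_dvd_mul (cyclotomic.dvd_X_pow_sub_one 12 ℤ) ((cyclotomic.dvd_X_pow_sub_one 3 ℤ).trans
        (by rw [show (12 : ℕ) = 3 * 4 from rfl, pow_mul]; exact sub_one_dvd_pow_sub_one _ 4)))
    simp only [map_sub, map_pow, aeval_X, map_one] at h3
    rw [← pow_add]
    exact sub_eq_zero.1 h3
  have hμneg : μ' ᵥ* M ^ 6 = -μ' := by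
    rw [hμ'def, Matrix.sub_vecMul, Matrix.vecMul_vecMul, hv2, Matrix.vecMul_one, neg_sub]
  have hμ'0 : μ' ≠ 0 := by
    intro h0
    have hμfix : μ ᵥ* M ^ 6 = μ := (sub_eq_zero.1 h0).symm
    have ha : ∀ j : Fin tbl.rank, ζ ^ (a ᵥ* G) j = 1 := by
      have hJ : ∀ j ∈ J0, ζ ^ (a ᵥ* G) j = 1 := by
        intro j hj
        rw [← val_simple valid (a ᵥ* G) j, show tbl.simple j.val = (tbl.simpF valid j).val from rfl,
          ← val_perm valid hg]
        refine h2 _ ?_
        have h3 : (μ ᵥ* G) ᵥ* mat tbl valid z = μ ᵥ* G := by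
          rw [hMz, Matrix.vecMul_vecMul, ← mul_assoc, ← mul_assoc, hGG, one_mul, ← Matrix.vecMul_vecMul, hμfix]
        have h4 := congrArg (fun t => t ⬝ᵥ Pi.single j 1) h3
        simp only [← Matrix.dotProduct_mulVec] at h4
        rw [mat_col valid hzW] at h4
        have h5 : (fun k : Fin tbl.rank => tbl.co (z (tbl.simpF valid j)).val k.val) = -Pi.single j 1 := by
          funext k
          rw [pw_wapp valid, show (tbl.simpF valid j).val = tbl.simple j.val from rfl, zw_neg j hj,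
            co_neg valid (simple_lt valid j.2) k.2, co_simple valid j.2 k.2, Pi.neg_apply, Pi.single_apply]
          simp [Fin.ext_iff]
        rw [h5, Matrix.mulVec_neg, dotProduct_neg, Matrix.dotProduct_mulVec, dotProduct_single, mul_one] at h4
        rw [val_perm valid hg, show (tbl.simpF valid j).val = tbl.simple j.val from rfl, val_simple valid]
        show (μ ᵥ* G) j = 0
        omega
      intro i
      by_cases hi : i ∈ J0
      · exact hJ i hi
      have h3 : ζ ^ ((a ᵥ* G) ᵥ* mat tbl valid z) i = (ζ ^ (a ᵥ* G) i)⁻¹ := by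
        have h4 := hinv (g (tbl.simpF valid i))
        rw [← Equiv.Perm.mul_apply, show w ^ 6 * g = g * z by rw [← hgv]; group, Equiv.Perm.mul_apply,
          val_perm valid hg, val_perm valid hzW, val_perm valid hg,
          show (tbl.simpF valid i).val = tbl.simple i.val from rfl, val_simple valid, val_simple valid] at h4
        exact h4
      have h4 : ζ ^ ((a ᵥ* G) ᵥ* mat tbl valid z) i = ζ ^ (a ᵥ* G) i := by
        simp only [Matrix.vecMul, dotProduct]
        rw [zpow_sum_eq, Finset.prod_eq_single i]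
        · have h5 := congrFun (fix_single valid hzJ (i := i) hi) i
          rw [Matrix.single_one_vecMul, Pi.single_eq_same] at h5
          change mat tbl valid z i i = 1 at h5
          rw [h5, mul_one]
        · intro k _ hk
          by_cases hkJ : k ∈ J0
          · rw [_root_.zpow_mul]
            have := hJ k hkJ
            simp only [Matrix.vecMul, dotProduct] at this
            rw [this, _root_.one_zpow]
          · have h5 := congrFun (fix_single valid hzJ (i := k) hkJ) i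
            rw [Matrix.single_one_vecMul, Pi.single_eq_of_ne hk.symm] at h5
            change mat tbl valid z k i = 0 at h5
            rw [h5, mul_zero, zpow_zero]
        · simp
      rw [h4] at h3
      have h5 : (ζ ^ (a ᵥ* G) i) ^ (2 : ℕ) = 1 := by rw [sq]; exact eq_inv_iff_mul_eq_one.1 h3
      have h6 : (ζ ^ (a ᵥ* G) i) ^ r = 1 := by
        rw [← zpow_natCast, ← _root_.zpow_mul, mul_comm, _root_.zpow_mul, zpow_natCast, ← hζ, pow_orderOf_eq_one,
          _root_.one_zpow]
      exact orderOf_eq_one_iff.1 (Nat.eq_one_of_dvd_coprimes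
        ((Nat.coprime_primes (Fact.out : r.Prime) Nat.prime_two).2 hr2)
        (orderOf_dvd_of_pow_eq_one h6) (orderOf_dvd_of_pow_eq_one h5))
    obtain ⟨s, hs⟩ := hnz
    refine hs ?_
    rw [show s = g (g⁻¹ s) by simp, val_perm valid hg, val, dotProduct, zpow_sum_eq]
    exact Finset.prod_eq_one fun j _ => by rw [_root_.zpow_mul, ha, _root_.one_zpow]
  have hMinv : M * mat tbl valid w⁻¹ = 1 := by rw [← mat_mul valid hw, mul_inv_cancel, mat_one]
  have hμkill : μ' ᵥ* aeval M (cyclotomic 12 ℤ) = 0 := by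
    have h3 := aeval_kill valid hw (Q := cyclotomic 12 ℤ * cyclotomic 3 ℤ) (k := 1) one_ne_zero
      (by rw [hp, pow_one])
    rw [cyclotomic_twelve, cyclotomic_three] at h3
    simp only [map_mul, map_add, map_sub, map_pow, aeval_X, map_one] at h3
    rw [cyclotomic_twelve]
    simp only [map_add, map_sub, map_pow, aeval_X, map_one]
    set P := M ^ 4 - M ^ 2 + 1
    have h4 : μ' ᵥ* (P * M) = 0 := by
      rw [show P * M = P * (M ^ 2 + M + 1) - (M ^ 6 + 1) by simp only [P]; noncomm_ring, h3, zero_sub,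
        Matrix.vecMul_neg, Matrix.vecMul_add, Matrix.vecMul_one, hμneg, neg_add_cancel, neg_zero]
    rw [← Matrix.vecMul_one (μ' ᵥ* P), ← hMinv, ← Matrix.vecMul_vecMul, Matrix.vecMul_vecMul μ' P, h4,
      Matrix.zero_vecMul]
  -- rows negated by the sixth power kill the root
  set β' : Fin tbl.rank → ℤ := fun j => tbl.co β.val j.val
  have hb : LinearIndependent ℚ fun i : {i : Fin tbl.rank // i ∉ J0} =>
      fun m => (((Pi.single i.1 (1 : ℤ) ᵥ* G') m : ℤ) : ℚ) := by
    have hinj : LinearMap.ker (Matrix.vecMulLinear (G'.map (Int.castRingHom ℚ))) = ⊥ := by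
      rw [LinearMap.ker_eq_bot']
      intro x hx
      have := congrArg (fun t => t ᵥ* G.map (Int.castRingHom ℚ)) hx
      rw [Matrix.vecMulLinear_apply, Matrix.vecMul_vecMul, ← Matrix.map_mul, hGG'] at this
      simpa using this
    have : (fun i : {i : Fin tbl.rank // i ∉ J0} => fun m => (((Pi.single i.1 (1 : ℤ) ᵥ* G') m : ℤ) : ℚ)) =
        Matrix.vecMulLinear (G'.map (Int.castRingHom ℚ)) ∘
          ((Pi.basisFun ℚ (Fin tbl.rank)) ∘ Subtype.val) := by
      funext i m
      simp [Matrix.single_one_vecMul]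
    rw [this]
    exact ((Pi.basisFun ℚ (Fin tbl.rank)).linearIndependent.comp _ Subtype.val_injective).map' _ hinj
  have hkey := (card_add_card_le (M ^ 6) (fun i : Fin (12 : ℕ).totient => μ' ᵥ* M ^ (i : ℕ))
    (fun i : {i : Fin tbl.rank // i ∉ J0} => Pi.single i.1 1 ᵥ* G')
    (linearIndependent_rows M (by norm_num) hμ'0 hμkill) hb (fun i => by
      rw [Matrix.vecMul_vecMul, ← pow_add, add_comm, pow_add, ← Matrix.vecMul_vecMul, hμneg, Matrix.neg_vecMul])
    (fun i => by
      have h3 := fix_single valid hzJ (i := i.1) i.2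
      rw [hMz] at h3
      have h4 := congrArg (· ᵥ* G') h3
      simp only [Matrix.vecMul_vecMul, mul_assoc, hGG, mul_one] at h4
      rw [Matrix.vecMul_vecMul]
      exact h4)).2 (by
    rw [Fintype.card_fin, Fintype.card_subtype, card_outside]
    decide) β' (fun i => by
      rw [← Matrix.dotProduct_mulVec, ← mat_pow valid hw, mat_mulVec valid (pow_mem hw _)]
      show val tbl μ' ((w ^ (i : ℕ)) β).val = 0
      have h3 : ∀ k : ℕ, val tbl μ ((w ^ k) β).val = 0 := fun k =>
        hzero _ (by rw [hiter, hβ, one_pow])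
      have h4 : val tbl μ' ((w ^ (i : ℕ)) β).val =
          val tbl μ ((w ^ (i : ℕ)) β).val - val tbl (μ ᵥ* M ^ 6) ((w ^ (i : ℕ)) β).val := by
        simp [val, hμ'def, sub_dotProduct]
      rw [h4, hval6, ← Equiv.Perm.mul_apply, ← pow_add, h3, h3, sub_zero])
  have hfix : M ^ 6 *ᵥ β' = β' := by
    funext i
    have h3 := hkey (Pi.single i 1 ᵥ* (1 - M ^ 6)) (by
      rw [Matrix.vecMul_vecMul, Matrix.sub_mul, one_mul, hv2, ← Matrix.vecMul_neg, neg_sub])
    rw [← Matrix.dotProduct_mulVec, Matrix.sub_mulVec, Matrix.one_mulVec, single_one_dotProduct,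
      Pi.sub_apply, sub_eq_zero] at h3
    exact h3.symm
  obtain ⟨j, hj⟩ := zw_fixed (g⁻¹ β)
  refine hj ?_
  have h3 : ∀ s : Fin tbl.n, (fun k : Fin tbl.rank => tbl.co (g⁻¹ s).val k.val) = G' *ᵥ fun k => tbl.co s.val k.val :=
    fun s => (mat_mulVec valid (inv_mem hg) s).symm
  have h4 : (fun k : Fin tbl.rank => tbl.co (z (g⁻¹ β)).val k.val) = fun k => tbl.co (g⁻¹ β).val k.val := by
    rw [← mat_mulVec valid hzW, h3, hMz, Matrix.mulVec_mulVec, mul_assoc, hGG, mul_one, ← Matrix.mulVec_mulVec,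
      hfix]
  have h5 := congrFun h4 j
  simp only [pw_wapp valid, z] at h5
  exact h5

end E6

end CfsgLib.Chevalley.CoverTorus
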