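import Cfsg.Agent.Lib.Chevalley.CoverTorus.StMap
import Cfsg.Agent.Lib.Chevalley.CoverTorus.Coweight
import Cfsg.Agent.Lib.Chevalley.CoxeterTorus.Main

/-!
Self-centralising tori in Chevalley groups with non-trivial centre of the covering group.
-/

set_option autoImplicit false

namespace CfsgLib.Chevalley.CoverTorus

open Tbl hiding X
open CoxeterTorus
open CfsgLib.KnownB.FieldAut (mapGL mapGL_inj map_torus map_group)
open scoped Matrix

variable {T : Tbl} (hO : T.StOk)
include hO

omit hO in
theorem stMap_stMap {K L L' : Type*} [Field K] [Field L] [Field L'] (f : K →+* L) (g : L →+* L')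
    (x : T.datum.SteinbergGroup K) : stMap T g (stMap T f x) = stMap T (g.comp f) x := by
  have h : (stMap T g).comp (stMap T f) = stMap T (g.comp f) := by
    refine PresentedGroup.ext fun p => ?_
    have e : PresentedGroup.of (rels := T.datum.steinbergRels K) p = T.sX K p.1.val p.2 := by
      rw [sX, Cfsg.Lie.ChevalleyDatum.stGen, Cfsg.Lie.ChevalleyDatum.stX, dif_pos p.1.2]
      rfl
    rw [e, MonoidHom.comp_apply, stMap_sX f p.1.2, stMap_sX g p.1.2, stMap_sX (g.comp f) p.1.2]
    rfl
  exact DFunLike.congr_fun h x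

theorem mem_center_of_hom {K : Type*} [Field K] {g : T.datum.SteinbergGroup K} (h : hO.hom K g = 1) :
    g ∈ Subgroup.center (T.datum.SteinbergGroup K) ∧ ∃ k, torusHom T K k = 1 ∧ sTorus hO k = g := by
  refine ⟨?_, ?_⟩
  · rw [← stProj_ker hO, MonoidHom.mem_ker]
    exact Subtype.ext h
  · obtain ⟨k, hk⟩ := sDiag_le_range hO (ker_le_sDiag hO (MonoidHom.mem_ker.2 h))
    exact ⟨k, by rw [← hom_sTorus hO, hk, h], hk⟩

set_option maxHeartbeats 1600000 in
/-- The centraliser of a regular element of order `r` is cyclic and self-centralising. -/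
theorem exists_torus
    (hinj : ∀ (L : Type) [Field L] [Fintype L], Function.Injective (sTorus (F := L) hO))
    {z : ℕ} (hker : ∀ (L : Type) [Field L] [Fintype L] (k : Fin T.rank → Lˣ), torusHom T L k = 1 → k ^ z = 1)
    {F : Type*} [Field F] [Fintype F] {q n P r : ℕ} [NeZero n] (hF : Fintype.card F = q)
    (hr : r.Prime) (hrn : r ∣ q ^ n - 1) (hrW : r.Coprime (Nat.card (T.WP hO.valid)))
    (hrG : r ∣ Nat.card ↥(T.datum.group F)) {pol : Polynomial ℤ}
    (hgood : ∀ (A : Type) [CommGroup A] (ζ : A), orderOf ζ = r → ∀ (a : Fin T.rank → ℤ),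
      ∀ w ∈ T.WP hO.valid, (∃ s : Fin T.n, ζ ^ val T a s.val ≠ 1) →
      (∀ s : Fin T.n, ζ ^ val T a (w s).val = (ζ ^ val T a s.val) ^ q) →
      (mat T hO.valid w).charpoly = pol ∧ ∀ s : Fin T.n, ζ ^ val T a s.val ≠ 1)
    (hsol : ∀ N : Matrix (Fin T.rank) (Fin T.rank) ℤ, N.charpoly = pol →
      (∃ v ∈ T.WP hO.valid, cartanZ T * mat T hO.valid v = N * cartanZ T) →
      IsAddCyclic (sol (q ^ n - 1) (N - (q : ℤ) • 1)) ∧
        Nat.card (sol (q ^ n - 1) (N - (q : ℤ) • 1)) = P)
    (hz : ∀ (L : Type) [Field L] [Fintype L], Fintype.card L = q ^ n →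
      ∀ f : Lˣ, f ^ (z * P) = 1 → ∃ g : Lˣ, g ^ z = f) :
    ∃ H : Subgroup ↥(T.datum.group F), IsCyclic ↥H ∧
      Nat.card ↥H * Nat.card (torusHom T F).ker = P ∧
      Subgroup.centralizer (H : Set ↥(T.datum.group F)) = H := by
  classical
  have hT := hO.valid
  have hC := hO.comm
  have : Fact r.Prime := ⟨hr⟩
  have hq2 : 1 < q := hF ▸ Fintype.one_lt_card
  -- the extension field
  obtain ⟨p, hchar⟩ := CharP.exists F
  obtain ⟨d, hp, hd⟩ := FiniteField.card F p
  have : Fact p.Prime := ⟨hp⟩
  let K := FiniteField.Extension F p n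
  letI : Fintype K := Fintype.ofFinite K
  let ι : F →+* K := algebraMap F K
  have : CharP K p := charP_of_injective_algebraMap ι.injective p
  have hK : Fintype.card K = q ^ n := by
    rw [← Nat.card_eq_fintype_card, FiniteField.natCard_extension, Nat.card_eq_fintype_card, hF]
  let σ : K →+* K := iterateFrobenius K p d
  have hσ : ∀ x : K, σ x = x ^ q := fun x => by rw [iterateFrobenius_def, ← hd, hF]
  have hfix : ∀ x : K, σ x = x ↔ x ∈ Set.range ι := by
    intro x
    rw [hσ]
    refine ⟨fun hx => ?_, ?_⟩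
    · by_contra hxr
      let Q : Polynomial K := Polynomial.X ^ q - Polynomial.X
      have hQ : Q ≠ 0 := FiniteField.X_pow_card_sub_X_ne_zero K hq2
      have hsub : insert x (Finset.univ.image ι) ⊆ Q.roots.toFinset := by
        intro y hy
        rw [Multiset.mem_toFinset, Polynomial.mem_roots hQ]
        rw [Finset.mem_insert, Finset.mem_image] at hy
        simp only [Q, Polynomial.IsRoot, Polynomial.eval_sub, Polynomial.eval_pow, Polynomial.eval_X,
          sub_eq_zero]
        rcases hy with rfl | ⟨c, -, rfl⟩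
        · exact hx
        · rw [← map_pow, ← hF, FiniteField.pow_card]
      have h1 := (Finset.card_le_card hsub).trans (Multiset.toFinset_card_le _)
      have h2 := Polynomial.card_roots' Q
      rw [Finset.card_insert_of_notMem (by simpa using fun c => fun h => hxr ⟨c, h⟩),
        Finset.card_image_of_injective _ ι.injective, Finset.card_univ, hF] at h1
      rw [show Q.natDegree = q from FiniteField.X_pow_card_sub_X_natDegree_eq K hq2] at h2
      omega
    · rintro ⟨c, rfl⟩
      rw [← map_pow, ← hF, FiniteField.pow_card]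
  have hKinj : Function.Injective (sTorus (F := K) hO) := hinj K
  have hE : Nat.card Kˣ = q ^ n - 1 := by rw [Nat.card_units, Nat.card_eq_fintype_card, hK]
  have hrK : r ∣ Nat.card Kˣ := hE ▸ hrn
  obtain ⟨ζ, hζ⟩ := exists_prime_orderOf_dvd_card' (G := Kˣ) r hrK
  have hσu : ∀ f : Fin T.rank → Kˣ, (fun i => Units.map (σ : K →* K) (f i)) = f ^ q := fun f =>
    funext fun i => Units.ext (by simp [hσ])
  have hmap : ∀ f : Fin T.rank → Kˣ, mapGL T σ (torusHom T K f) = torusHom T K f ^ q := fun f => by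
    rw [map_torus, hσu, map_pow]
  have hσι : σ.comp ι = ι := RingHom.ext fun c => (hfix _).2 ⟨c, rfl⟩
  have hσιG : ∀ g : GL T.I F, mapGL T σ (mapGL T ι g) = mapGL T ι g := fun g =>
    Units.ext (Matrix.ext fun i j => (hfix _).2 ⟨(g : Matrix T.I T.I F) i j, rfl⟩)
  -- the element of order `r` and its diagonal conjugate
  obtain ⟨s, hs⟩ := exists_prime_orderOf_dvd_card' (G := ↥(T.datum.group F)) r hrG
  have hsG : mapGL T ι (s : GL T.I F) ∈ T.datum.group K := map_group ι hT ⟨_, s.2, rfl⟩
  have hso : orderOf (⟨_, hsG⟩ : ↥(T.datum.group K)) = r ^ 1 := by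
    rw [pow_one, ← Subgroup.orderOf_coe, orderOf_injective _ (mapGL_inj ι), Subgroup.orderOf_coe, hs]
  obtain ⟨x0, hx0⟩ := Twist.ToriGen.conj_into ((T.datum.diagonalSubgroup K).subgroupOf (T.datum.group K))
    (by rw [Nat.card_congr (Subgroup.subgroupOfEquivOfLe (diag_le_group hT)).toEquiv,
      card_flag_dvd hT hC (by rw [hK]; exact hrn) hrW]) hso
  set x : GL T.I K := (x0 : GL T.I K)
  have hxG : x ∈ T.datum.group K := x0.2
  rw [Subgroup.mem_subgroupOf] at hx0
  obtain ⟨f0, hf0⟩ : ∃ f, torusHom T K f = x * mapGL T ι (s : GL T.I F) * x⁻¹ := by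
    rw [← MonoidHom.mem_range, torusHom_range hT]
    exact hx0
  -- logarithms
  have hlog : ∀ j : Fin T.rank, ∃ k : ℤ, ζ ^ k = tCh T f0 (T.simple j.val) := by
    intro j
    have h1 : IsPrimitiveRoot ζ r := hζ ▸ IsPrimitiveRoot.orderOf ζ
    refine Subgroup.mem_zpowers_iff.1 ?_
    rw [h1.zpowers_eq, mem_rootsOfUnity, ← tCh_pow]
    have h2 : torusHom T K (f0 ^ r) = 1 := by
      rw [map_pow, hf0, _root_.conj_pow, ← map_pow, ← hs, ← Subgroup.coe_pow, pow_orderOf_eq_one]
      simp
    have h3 := MonoidHom.mem_ker.1 ((torusHom_ker hT).le (MonoidHom.mem_ker.2 h2))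
    exact congrFun h3 j
  choose a ha using hlog
  have hval : ∀ t : Fin T.n, tCh T f0 t.val = ζ ^ val T a t.val := by
    intro t
    rw [tCh_linear hT, val, dotProduct, zpow_sum_eq]
    exact Finset.prod_congr rfl fun j _ => by rw [_root_.zpow_mul, ha]
  have hnz : ∃ t : Fin T.n, ζ ^ val T a t.val ≠ 1 := by
    by_contra hall
    push Not at hall
    have h1 : torusHom T K f0 = 1 := by
      rw [show (1 : GL T.I K) = torusHom T K 1 from (map_one _).symm]
      exact torus_congr hT fun t => by rw [hval, hall]; simp [tCh]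
    rw [hf0, conj_eq_one_iff] at h1
    have h2 : s = 1 := Subtype.ext (mapGL_inj ι (by rw [h1, Subgroup.coe_one, map_one]))
    rw [h2, orderOf_one] at hs
    exact hr.ne_one hs.symm
  -- the action of the Frobenius map
  set y := mapGL T σ x * x⁻¹ with hy
  have hyG : y ∈ T.datum.group K := mul_mem (map_group σ hT ⟨x, hxG, rfl⟩) (inv_mem hxG)
  have hrel0 : torusHom T K (f0 ^ q) * y = y * torusHom T K f0 := by
    rw [map_pow, ← hmap, hf0, map_mul, map_mul, map_inv, hσιG, hy]
    group
  obtain ⟨u1, hu1, m, hmN, w, hw, u, hu, hmm, hye, hcu1, hcu, hwrel⟩ := decompose hT hC hyG hrel0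
  set v := w⁻¹ with hvdef
  have hv : v ∈ T.WP hT := inv_mem hw
  have hvrel : ∀ t : Fin T.n, ζ ^ val T a (v t).val = (ζ ^ val T a t.val) ^ q := by
    intro t
    have h1 := hwrel (v t)
    rw [hvdef, ← Equiv.Perm.mul_apply, mul_inv_cancel, Equiv.Perm.one_apply] at h1
    rw [← hval, ← hval, ← h1]
    exact tCh_pow f0 q _
  obtain ⟨hpol, hreg⟩ := hgood Kˣ ζ hζ a v hv hnz hvrel
  have hreg0 : ∀ t : Fin T.n, tCh T f0 t.val ≠ 1 := fun t => by rw [hval]; exact hreg t
  have hregq : ∀ t : Fin T.n, tCh T (f0 ^ q) t.val ≠ 1 := by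
    intro t
    rw [tCh_pow, hval, ← hvrel]
    exact hreg _
  have hym : y = m := by
    rw [hye, unip_trivial hT hC hregq hu1 hcu1, unip_trivial hT hC hreg0 hu hcu, one_mul, mul_one]
  have hcent : ∀ c ∈ T.datum.group K, torusHom T K f0 * c = c * torusHom T K f0 →
      ∃ f, torusHom T K f = c := by
    intro c hc h
    obtain ⟨u1', hu1', m', hm'N, w', hw', u', hu', hmm', hce, hc1, hc2, hrel'⟩ := decompose hT hC hc h
    rw [unip_trivial hT hC hreg0 hu1' hc1, unip_trivial hT hC hreg0 hu' hc2, one_mul, mul_one] at hce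
    have hw1 : w' = 1 := stab_trivial hT hζ hrW a hreg hw' fun t => by rw [← hval, ← hval, hrel']
    subst hw1
    rw [← MonoidHom.mem_range, torusHom_range hT, hce]
    exact mem_diag_of_mono_one hT hm'N hmm'
  -- the action on the coroots
  obtain ⟨N, hN, hNpol⟩ := exists_coweight hT hv
  let Nf : ℕ → ℕ → ℤ := fun i j => if h : i < T.rank ∧ j < T.rank then N ⟨i, h.1⟩ ⟨j, h.2⟩ else 0
  have hNf : ∀ i j : Fin T.rank, Nf i j = N i j := fun i j => by simp [Nf]
  let Θ : (Fin T.rank → Kˣ) →* (Fin T.rank → Kˣ) := powMat T.rank Nf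
  have hΘ : ∀ f, torusHom T K (Θ f) * y = y * torusHom T K f := by
    intro f
    rw [hym, eq_comm, mono_rel hT hmN hmm]
    intro t
    rw [tCh_powMat hT hv hN Nf hNf f (w t), hvdef, ← Equiv.Perm.mul_apply, inv_mul_cancel,
      Equiv.Perm.one_apply]
  let S : Subgroup (Fin T.rank → Kˣ) := Θ.eqLocus (powMonoidHom q)
  have hmemS : ∀ f, f ∈ S ↔ Θ f = f ^ q := fun f => Iff.rfl
  obtain ⟨hScyc, hScard⟩ : IsCyclic S ∧ Nat.card S = P := by
    obtain ⟨h1, h2⟩ := hsol N (hNpol.trans hpol) ⟨v, hv, hN⟩
    rw [← hE] at h1 h2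
    set E := Nat.card Kˣ
    let ψ : Kˣ ≃* Multiplicative (ZMod E) :=
      (zmodCyclicMulEquiv (G := Kˣ) inferInstance).symm
    let ψ' : (Fin T.rank → Kˣ) ≃* Multiplicative (Fin T.rank → ZMod E) :=
      { toFun := fun f => Multiplicative.ofAdd fun i => Multiplicative.toAdd (ψ (f i))
        invFun := fun g i => ψ.symm (Multiplicative.ofAdd (Multiplicative.toAdd g i))
        left_inv := fun f => funext fun i => by simp
        right_inv := fun g => by simp
        map_mul' := fun f g => by simp only [Pi.mul_apply, map_mul, toAdd_mul]; rfl }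
    have hmem : ∀ f, f ∈ S ↔ Multiplicative.toAdd (ψ' f) ∈ sol E (N - (q : ℤ) • 1) := by
      intro f
      rw [mem_sol, hmemS]
      have e : ∀ j, Multiplicative.toAdd (ψ (Θ f j)) =
          (Multiplicative.toAdd (ψ' f) ᵥ* N.map (Int.castRingHom (ZMod E))) j := by
        intro j
        show Multiplicative.toAdd (ψ (∏ i : Fin T.rank, f i ^ Nf i j)) = _
        rw [map_prod, toAdd_prod]
        refine Finset.sum_congr rfl fun i _ => ?_
        rw [map_zpow, toAdd_zpow, zsmul_eq_mul, hNf, mul_comm]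
        rfl
      have e2 : ∀ j, Multiplicative.toAdd (ψ ((f ^ q) j)) = (q : ZMod E) * Multiplicative.toAdd (ψ' f) j := by
        intro j
        rw [Pi.pow_apply, map_pow, toAdd_pow, nsmul_eq_mul]
        rfl
      have e3 : (N - (q : ℤ) • 1).map (Int.castRingHom (ZMod E)) =
          N.map (Int.castRingHom (ZMod E)) - (q : ZMod E) • 1 := by
        ext i j
        simp only [Matrix.map_apply, Matrix.sub_apply, Matrix.smul_apply, smul_eq_mul, map_sub, map_mul,
          map_natCast]
        by_cases hij : i = j <;> simp [Matrix.one_apply, hij]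
      rw [e3, Matrix.vecMul_sub, Matrix.vecMul_smul, Matrix.vecMul_one, sub_eq_zero, funext_iff, funext_iff]
      refine forall_congr' fun j => ?_
      rw [← e j, Pi.smul_apply, smul_eq_mul, ← e2 j]
      exact ((Multiplicative.toAdd.injective.comp ψ.injective).eq_iff).symm
    let eS : S ≃* Multiplicative (sol E (N - (q : ℤ) • 1)) :=
      { toFun := fun f => Multiplicative.ofAdd ⟨Multiplicative.toAdd (ψ' f), (hmem f).1 f.2⟩
        invFun := fun g => ⟨ψ'.symm (Multiplicative.ofAdd (Multiplicative.toAdd g).1), (hmem _).2 (by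
          rw [MulEquiv.apply_symm_apply, toAdd_ofAdd]; exact (Multiplicative.toAdd g).2)⟩
        left_inv := fun f => Subtype.ext (by simp)
        right_inv := fun g => by
          refine Multiplicative.toAdd.injective (Subtype.ext ?_)
          simp
        map_mul' := fun f g => by
          refine Multiplicative.toAdd.injective (Subtype.ext ?_)
          simp }
    exact ⟨eS.isCyclic.2 inferInstance, by rw [Nat.card_congr (eS.toEquiv.trans Multiplicative.toAdd), h2]⟩
  have hSP : ∀ f ∈ S, f ^ P = 1 := fun f hf => by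
    have h1 := pow_card_eq_one' (G := S) (x := ⟨f, hf⟩)
    rw [hScard] at h1
    exact congrArg Subtype.val h1
  -- lifts to the presented group
  obtain ⟨X, hX⟩ := stProj_surjective (F := K) hO ⟨x, hxG⟩
  replace hX : hO.hom K X = x := congrArg Subtype.val hX
  set Y := stMap T σ X * X⁻¹ with hYdef
  have hY : hO.hom K Y = y := by rw [hYdef, map_mul, map_inv, hom_stMap hO, hX]
  have hlift : ∀ f : Fin T.rank → Kˣ, f ^ (z * P) = 1 → Y * sTorus hO f = sTorus hO (Θ f) * Y := by
    intro f hf
    choose g hg using fun i => hz K hK (f i) (congrFun hf i)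
    obtain rfl : f = g ^ z := funext fun i => (hg i).symm
    set c := (sTorus hO (Θ g))⁻¹ * (Y * sTorus hO g * Y⁻¹) with hc
    obtain ⟨hcc, k, hk1, hk⟩ := mem_center_of_hom hO (g := c) (by
      rw [hc, map_mul, map_inv, map_mul, map_mul, map_inv, hom_sTorus, hom_sTorus, hY, ← hΘ g]
      group)
    have hcz : c ^ z = 1 := by rw [← hk, ← map_pow, hker K k hk1, map_one]
    have h1 : Y * sTorus hO g * Y⁻¹ = sTorus hO (Θ g) * c := by rw [hc]; group
    have h2 := congrArg (· ^ z) h1
    simp only [_root_.conj_pow] at h2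
    rw [(Commute.mul_pow (Subgroup.mem_center_iff.1 hcc (sTorus hO (Θ g))) z), hcz, mul_one, ← map_pow,
      ← map_pow, ← map_pow] at h2
    calc Y * sTorus hO (g ^ z) = Y * sTorus hO (g ^ z) * Y⁻¹ * Y := by group
      _ = sTorus hO (Θ (g ^ z)) * Y := by rw [h2]
  have hSlift : ∀ f ∈ S, Y * sTorus hO f = sTorus hO (f ^ q) * Y := fun f hf => by
    rw [hlift f (by rw [mul_comm, pow_mul, hSP f hf, one_pow]), (hmemS f).1 hf]
  have hσt : ∀ f : Fin T.rank → Kˣ, stMap T σ (sTorus hO f) = sTorus hO (f ^ q) := fun f => by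
    rw [stMap_sTorus hO, hσu]
  -- the centraliser
  let C : Subgroup ↥(T.datum.group F) := Subgroup.centralizer {s}
  let Φ : C →* GL T.I K := (MulAut.conj x).toMonoidHom.comp
    ((mapGL T ι).comp ((T.datum.group F).subtype.comp C.subtype))
  have hΦinj : Function.Injective Φ := (MulAut.conj x).injective.comp
    ((mapGL_inj ι).comp ((Subgroup.subtype_injective _).comp (Subgroup.subtype_injective _)))
  have hrange : Φ.range = S.map (torusHom T K) := by
    ext c
    simp only [MonoidHom.mem_range, Subgroup.mem_map]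
    constructor
    · rintro ⟨g, rfl⟩
      show ∃ f ∈ S, torusHom T K f = x * mapGL T ι ((g : ↥(T.datum.group F)) : GL T.I F) * x⁻¹
      have hgs : mapGL T ι ((g : ↥(T.datum.group F)) : GL T.I F) * mapGL T ι (s : GL T.I F) =
          mapGL T ι (s : GL T.I F) * mapGL T ι ((g : ↥(T.datum.group F)) : GL T.I F) := by
        rw [← map_mul, ← map_mul, ← Subgroup.coe_mul, ← Subgroup.coe_mul,
          Subgroup.mem_centralizer_singleton_iff.1 g.2]
      obtain ⟨f, hf⟩ := hcent (x * mapGL T ι ((g : ↥(T.datum.group F)) : GL T.I F) * x⁻¹)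
        (mul_mem (mul_mem hxG (map_group ι hT ⟨_, (g : ↥(T.datum.group F)).2, rfl⟩)) (inv_mem hxG)) (by
          rw [hf0]
          calc _ = x * (mapGL T ι (s : GL T.I F) * mapGL T ι ((g : ↥(T.datum.group F)) : GL T.I F)) * x⁻¹ := by
                group
            _ = x * (mapGL T ι ((g : ↥(T.datum.group F)) : GL T.I F) * mapGL T ι (s : GL T.I F)) * x⁻¹ := by
                rw [hgs]
            _ = _ := by group)
      obtain ⟨G0, hG0⟩ := stProj_surjective (F := F) hO (g : ↥(T.datum.group F))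
      replace hG0 : hO.hom F G0 = ((g : ↥(T.datum.group F)) : GL T.I F) := congrArg Subtype.val hG0
      set Gd := stMap T ι G0 with hGd
      have hGfix : stMap T σ Gd = Gd := by rw [hGd, stMap_stMap, hσι]
      obtain ⟨hkc, k, hk1, hk⟩ := mem_center_of_hom hO (g := X * Gd * X⁻¹ * (sTorus hO f)⁻¹) (by
        rw [map_mul, map_mul, map_mul, map_inv, map_inv, hX, hom_sTorus, hGd, hom_stMap hO, hG0, hf]
        group)
      refine ⟨k * f, ?_, by rw [map_mul, hk1, one_mul, hf]⟩
      have he : sTorus hO (k * f) = X * Gd * X⁻¹ := by rw [map_mul, hk]; group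
      have h1 : Y * sTorus hO (k * f) = sTorus hO ((k * f) ^ q) * Y := by
        rw [← hσt, he, map_mul, map_mul, map_inv, hGfix, hYdef]
        group
      have h2 : torusHom T K (Θ (k * f) * ((k * f) ^ q)⁻¹) = 1 := by
        have e1 : hO.hom K Y * torusHom T K (k * f) = torusHom T K ((k * f) ^ q) * hO.hom K Y := by
          rw [← hom_sTorus hO, ← hom_sTorus hO, ← map_mul, ← map_mul, h1]
        rw [hY, ← hΘ] at e1
        rw [map_mul, map_inv, mul_right_cancel e1, mul_inv_cancel]
      have h3 := hker K _ h2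
      rw [mul_pow, inv_pow, mul_inv_eq_one, ← map_pow, ← pow_mul, mul_comm q z, pow_mul] at h3
      have h4 := hlift (k * f) (by rw [pow_mul]; exact hSP _ h3)
      rw [h1] at h4
      exact hKinj (mul_right_cancel h4.symm)
    · rintro ⟨f, hf, rfl⟩
      set Z := X⁻¹ * sTorus hO f * X with hZ
      have hZfix : stMap T σ Z = Z := by
        have h1 := hSlift f hf
        rw [hYdef] at h1
        rw [hZ, map_mul, map_mul, map_inv, hσt]
        calc (stMap T σ X)⁻¹ * sTorus hO (f ^ q) * stMap T σ X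
            = (stMap T σ X)⁻¹ * (sTorus hO (f ^ q) * (stMap T σ X * X⁻¹)) * X := by group
          _ = X⁻¹ * sTorus hO f * X := by rw [← h1]; group
      obtain ⟨g, hg, hgz⟩ := fixed_mem hO σ ι hfix hKinj hZfix
      rw [hZ, map_mul, map_mul, map_inv, hX, hom_sTorus] at hgz
      refine ⟨⟨⟨g, hg⟩, Subgroup.mem_centralizer_singleton_iff.2 (Subtype.ext (mapGL_inj ι ?_))⟩, ?_⟩
      · have h3 : mapGL T ι (s : GL T.I F) = x⁻¹ * torusHom T K f0 * x := by rw [hf0]; group
        simp only [Subgroup.coe_mul, map_mul, hgz, h3]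
        calc _ = x⁻¹ * (torusHom T K f * torusHom T K f0) * x := by group
          _ = x⁻¹ * (torusHom T K f0 * torusHom T K f) * x := by rw [← map_mul, mul_comm f, map_mul]
          _ = _ := by group
      · show x * mapGL T ι g * x⁻¹ = torusHom T K f
        rw [hgz]
        group
  let eC : C ≃* S.map (torusHom T K) := (MonoidHom.ofInjective hΦinj).trans (MulEquiv.subgroupCongr hrange)
  have : IsCyclic (S.map (torusHom T K)) :=
    isCyclic_of_surjective ((torusHom T K).subgroupMap S) ((torusHom T K).subgroupMap_surjective S)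
  have hCcyc : IsCyclic C := eC.isCyclic.2 this
  -- the order
  have hkerS : Nat.card ((torusHom T K).subgroupMap S).ker = Nat.card (torusHom T F).ker := by
    let up : (Fin T.rank → Fˣ) → (Fin T.rank → Kˣ) := fun k i => Units.map (ι : F →* K) (k i)
    have hup : ∀ k : (torusHom T F).ker, up k.1 ∈ S ∧ torusHom T K (up k.1) = 1 := by
      intro k
      have h1 : torusHom T K (up k.1) = 1 := by rw [← map_torus ι, k.2, map_one]
      have hq' : up k.1 ^ q = up k.1 := funext fun i => Units.ext (by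
        have h2 := (hfix (ι (k.1 i : F))).2 ⟨_, rfl⟩
        rw [hσ] at h2
        simpa [up] using h2)
      refine ⟨?_, h1⟩
      have hz1 := hker K _ h1
      have h2 := hlift (up k.1) (by rw [pow_mul, hz1, one_pow])
      have hcn : sTorus hO (up k.1) ∈ Subgroup.center (T.datum.SteinbergGroup K) :=
        (mem_center_of_hom hO (by rw [hom_sTorus, h1])).1
      rw [Subgroup.mem_center_iff.1 hcn Y] at h2
      rw [hmemS, hq']
      exact hKinj (mul_right_cancel h2.symm)
    symm
    refine Nat.card_eq_of_bijective (fun k => ⟨⟨up k.1, (hup k).1⟩, MonoidHom.mem_ker.2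
      (Subtype.ext (hup k).2)⟩) ⟨fun k k' e => ?_, fun k => ?_⟩
    · refine Subtype.ext (funext fun i => Units.ext (ι.injective ?_))
      have := congrArg (fun z : ((torusHom T K).subgroupMap S).ker => ((z.1.1 i : Kˣ) : K)) e
      simpa [up] using this
    · obtain ⟨⟨k, hkS⟩, hk⟩ := k
      have h1 : torusHom T K k = 1 := congrArg Subtype.val (MonoidHom.mem_ker.1 hk)
      have h2 := hlift k (by rw [pow_mul, hker K _ h1, one_pow])
      rw [Subgroup.mem_center_iff.1 (mem_center_of_hom hO (by rw [hom_sTorus, h1])).1 Y] at h2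
      have h3 : k ^ q = k := ((hmemS k).1 hkS).symm.trans (hKinj (mul_right_cancel h2.symm))
      have h4 : ∀ i, ∃ d : Fˣ, Units.map (ι : F →* K) d = k i := fun i => by
        obtain ⟨t, ht⟩ := (hfix (k i : K)).mp (by
          rw [hσ, ← Units.val_pow_eq_pow_val, ← Pi.pow_apply, h3])
        exact ⟨Units.mk0 t fun h0 => (k i).ne_zero (by rw [← ht, h0, map_zero]), Units.ext ht⟩
      choose d hd using h4
      refine ⟨⟨d, MonoidHom.mem_ker.2 (mapGL_inj ι ?_)⟩, Subtype.ext (Subtype.ext (funext hd))⟩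
      rw [map_torus, map_one, funext hd, h1]
  refine ⟨C, hCcyc, ?_, le_antisymm ?_ ?_⟩
  · rw [Nat.card_congr eC.toEquiv, ← hkerS, ← hScard,
      Subgroup.card_eq_card_quotient_mul_card_subgroup ((torusHom T K).subgroupMap S).ker,
      Nat.card_congr (QuotientGroup.quotientKerEquivOfSurjective _
        ((torusHom T K).subgroupMap_surjective S)).toEquiv]
  · exact Subgroup.centralizer_le (by
      rintro g rfl
      exact Subgroup.mem_centralizer_singleton_iff.2 rfl)
  · intro g hg
    refine Subgroup.mem_centralizer_iff.2 fun k hk => ?_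
    letI := IsCyclic.commGroup (α := C)
    exact congrArg Subtype.val (mul_comm (⟨k, hk⟩ : C) ⟨g, hg⟩)

end CfsgLib.Chevalley.CoverTorus
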