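import Cfsg.Agent.Lib.Chevalley.CoverTorus.Coweight
import Cfsg.Agent.Lib.Chevalley.SylowTorus.Cases

/-!
Weyl group involutions negating a space of given dimension, and roots orthogonal to an eigenvector
for a primitive twelfth root of unity.
-/

set_option autoImplicit false

namespace CfsgLib.Chevalley.CoverTorus

open Tbl hiding X
open CoxeterTorus SylowTorus Polynomial
open scoped Matrix

variable {l N : ℕ}

/-- A factor of the characteristic polynomial kills some row. -/
theorem exists_row (M : Matrix (Fin l) (Fin l) ℤ) {P : ℤ[X]} (hP : 0 < P.natDegree) (hPm : P.Monic)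
    (h : P ∣ M.charpoly) : ∃ y : Fin l → ℤ, y ≠ 0 ∧ y ᵥ* aeval M P = 0 := by
  refine Matrix.exists_vecMul_eq_zero_iff.2 ?_
  by_contra hd
  obtain ⟨z, hz⟩ := IsAlgClosed.exists_root (P.map (Int.castRingHom ℂ)) (by
    rw [degree_map_eq_of_injective Int.cast_injective, degree_eq_natDegree hPm.ne_zero]
    exact_mod_cast hP.ne')
  set MC := M.map (Int.castRingHom ℂ) with hMC
  have h1 : MC.charpoly.IsRoot z := by
    rw [hMC, Matrix.charpoly_map]
    exact hz.dvd (Polynomial.map_dvd _ h)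
  rw [IsRoot, Matrix.eval_charpoly] at h1
  obtain ⟨x, hx0, hx⟩ := Matrix.exists_mulVec_eq_zero_iff.2 h1
  have h2 : MC *ᵥ x = z • x := by
    rw [Matrix.sub_mulVec, sub_eq_zero] at hx
    rw [← hx]
    ext i
    simp [Matrix.scalar, Matrix.mulVec_diagonal]
  have h3 : ∀ f : ℂ[X], aeval MC f *ᵥ x = f.eval z • x := by
    intro f
    induction f using Polynomial.induction_on with
    | C c => simp [Algebra.algebraMap_eq_smul_one, Matrix.smul_mulVec]
    | add f g hf hg => rw [map_add, Matrix.add_mulVec, hf, hg, eval_add, add_smul]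
    | monomial k c ih =>
      rw [pow_succ, ← mul_assoc, map_mul, aeval_X, ← Matrix.mulVec_mulVec, h2, Matrix.mulVec_smul, ih,
        smul_smul]
      rw [eval_mul_X, mul_comm]
  have h4 : (aeval MC (P.map (Int.castRingHom ℂ))).det = 0 :=
    Matrix.exists_mulVec_eq_zero_iff.1 ⟨x, hx0, by rw [h3, show (P.map _).eval z = 0 from hz, zero_smul]⟩
  rw [← algebraMap_int_eq, aeval_map_algebraMap] at h4
  have h5 : (aeval M P).map (Int.castRingHom ℂ) = aeval MC P :=
    (aeval_algHom_apply ((Int.castRingHom ℂ).mapMatrix : Matrix (Fin l) (Fin l) ℤ →+* _).toIntAlgHom M P).symm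
  rw [← h5, ← RingHom.mapMatrix_apply, ← RingHom.map_det] at h4
  exact hd (Int.cast_injective (h4.trans Int.cast_zero.symm))

/-- The translates of a row killed by an irreducible polynomial are independent. -/
theorem linearIndependent_rows (M : Matrix (Fin l) (Fin l) ℤ) {d : ℕ} (hd : 0 < d) {y : Fin l → ℤ}
    (hy : y ≠ 0) (hyk : y ᵥ* aeval M (cyclotomic d ℤ) = 0) :
    LinearIndependent ℚ fun i : Fin d.totient => fun k => (((y ᵥ* M ^ (i : ℕ)) k : ℤ) : ℚ) := by
  classical
  set e := Int.castRingHom ℚ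
  set MQ := M.map e
  set yQ : Fin l → ℚ := fun k => (y k : ℚ)
  have hcast : ∀ A : Matrix (Fin l) (Fin l) ℤ, yQ ᵥ* A.map e = fun k => (((y ᵥ* A) k : ℤ) : ℚ) := by
    intro A
    funext k
    simp [yQ, Matrix.vecMul, dotProduct, e]
  have hfam : ∀ i : ℕ, (fun k => (((y ᵥ* M ^ i) k : ℤ) : ℚ)) = yQ ᵥ* MQ ^ i := fun i => by
    rw [← hcast, ← RingHom.mapMatrix_apply, map_pow]
    rfl
  rw [show (fun i : Fin d.totient => fun k => (((y ᵥ* M ^ (i : ℕ)) k : ℤ) : ℚ)) =
    fun i : Fin d.totient => yQ ᵥ* MQ ^ (i : ℕ) from funext fun i => hfam i]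
  rw [Fintype.linearIndependent_iff]
  intro c hc i
  by_contra hci
  let f : ℚ[X] := ∑ j : Fin d.totient, C (c j) * X ^ (j : ℕ)
  have hf0 : f ≠ 0 := by
    intro h0
    have := congrArg (fun g => g.coeff (i : ℕ)) h0
    simp [f, coeff_X_pow, Fin.val_inj] at this
    exact hci this
  have hfy : yQ ᵥ* aeval MQ f = 0 := by
    simp only [f, map_sum, map_mul, aeval_C, aeval_X_pow, Matrix.vecMul_sum]
    rw [← hc]
    refine Finset.sum_congr rfl fun j _ => ?_
    rw [← Algebra.smul_def, Matrix.vecMul_smul]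
  have hΦy : yQ ᵥ* aeval MQ (cyclotomic d ℚ) = 0 := by
    rw [← map_cyclotomic d e, show e = algebraMap ℤ ℚ from (algebraMap_int_eq ℚ).symm, aeval_map_algebraMap,
      show aeval MQ (cyclotomic d ℤ) = (aeval M (cyclotomic d ℤ)).map e from
        aeval_algHom_apply e.mapMatrix.toIntAlgHom M _, hcast, hyk]
    funext k; simp
  obtain ⟨u, v, huv⟩ : IsCoprime (cyclotomic d ℚ) f := by
    refine (cyclotomic.irreducible_rat hd).coprime_iff_not_dvd.2 fun hdvd => ?_
    have h1 := natDegree_le_of_dvd hdvd hf0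
    rw [natDegree_cyclotomic] at h1
    have h2 : f.natDegree < d.totient := (natDegree_lt_iff_degree_lt hf0).2 (degree_sum_fin_lt c)
    omega
  have h1 : yQ ᵥ* aeval MQ (cyclotomic d ℚ * u + f * v) = 0 := by
    rw [map_add, map_mul, map_mul, Matrix.vecMul_add, ← Matrix.vecMul_vecMul, ← Matrix.vecMul_vecMul, hΦy,
      hfy, Matrix.zero_vecMul, Matrix.zero_vecMul, add_zero]
  rw [mul_comm _ u, mul_comm f v, huv, map_one, Matrix.vecMul_one] at h1
  exact hy (funext fun k => by simpa [yQ] using congrFun h1 k)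

/-- Independent rows negated by an involution and rows fixed by it. -/
theorem card_add_card_le (V : Matrix (Fin l) (Fin l) ℤ) {ι κ : Type*} [Fintype ι] [Fintype κ]
    (a : ι → Fin l → ℤ) (b : κ → Fin l → ℤ)
    (ha : LinearIndependent ℚ fun i => fun k => ((a i k : ℤ) : ℚ))
    (hb : LinearIndependent ℚ fun i => fun k => ((b i k : ℤ) : ℚ))
    (hav : ∀ i, a i ᵥ* V = -a i) (hbv : ∀ i, b i ᵥ* V = b i) :
    Fintype.card ι + Fintype.card κ ≤ l ∧ (Fintype.card ι + Fintype.card κ = l →
      ∀ x : Fin l → ℤ, (∀ i, a i ⬝ᵥ x = 0) → ∀ y : Fin l → ℤ, y ᵥ* V = -y → y ⬝ᵥ x = 0) := by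
  classical
  set aQ : ι → Fin l → ℚ := fun i k => ((a i k : ℤ) : ℚ) with haQ
  set bQ : κ → Fin l → ℚ := fun i k => ((b i k : ℤ) : ℚ) with hbQ
  set f := Matrix.vecMulLinear (V.map (Int.castRingHom ℚ))
  have hcast : ∀ z : Fin l → ℤ, f (fun k => (z k : ℚ)) = fun k => (((z ᵥ* V) k : ℤ) : ℚ) := fun z => by
    funext k
    simp [f, Matrix.vecMul, dotProduct]
  have hAf : ∀ x ∈ Submodule.span ℚ (Set.range aQ), f x = -x := fun x hx => by
    have h : Submodule.span ℚ (Set.range aQ) ≤ LinearMap.ker (f + LinearMap.id) := by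
      rw [Submodule.span_le]
      rintro _ ⟨i, rfl⟩
      show f _ + aQ i = 0
      rw [haQ, hcast, hav]
      funext k; simp
    exact eq_neg_of_add_eq_zero_left (h hx)
  have hBf : ∀ x ∈ Submodule.span ℚ (Set.range bQ), f x = x := fun x hx => by
    have h : Submodule.span ℚ (Set.range bQ) ≤ LinearMap.ker (f - LinearMap.id) := by
      rw [Submodule.span_le]
      rintro _ ⟨i, rfl⟩
      show f _ - bQ i = 0
      rw [hbQ, hcast, hbv, sub_self]
    exact sub_eq_zero.1 (h hx)
  have hdis : Disjoint (Submodule.span ℚ (Set.range aQ)) (Submodule.span ℚ (Set.range bQ)) := by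
    rw [Submodule.disjoint_def]
    intro x hx hx'
    have h1 := (hAf x hx).symm.trans (hBf x hx')
    funext k
    have := congrFun h1 k
    simp only [Pi.neg_apply] at this
    show x k = 0
    linarith
  have hab := ha.sum_type hb hdis
  have hle := hab.fintype_card_le_finrank
  rw [Fintype.card_sum, Module.finrank_fintype_fun_eq_card, Fintype.card_fin] at hle
  refine ⟨hle, fun heq x hx y hy => ?_⟩
  have hspan := hab.span_eq_top_of_card_eq_finrank' (by
    rw [Fintype.card_sum, Module.finrank_fintype_fun_eq_card, Fintype.card_fin, heq])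
  rw [Set.Sum.elim_range, Submodule.span_union] at hspan
  set yQ : Fin l → ℚ := fun k => (y k : ℚ) with hyQ
  obtain ⟨p, hp, p', hp', hpp⟩ := Submodule.mem_sup.1 (hspan ▸ Submodule.mem_top : yQ ∈ _)
  have h1 : f yQ = -yQ := by
    rw [hyQ, hcast, hy]
    funext k; simp
  rw [← hpp, map_add, hAf p hp, hBf p' hp'] at h1
  have hp0 : p' = 0 := funext fun k => by
    have := congrFun h1 k
    simp only [Pi.add_apply, Pi.neg_apply] at this
    show p' k = 0
    linarith
  rw [hp0, add_zero] at hpp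
  let L : (Fin l → ℚ) →ₗ[ℚ] ℚ :=
    { toFun := fun z => z ⬝ᵥ fun k => (x k : ℚ)
      map_add' := fun z z' => add_dotProduct _ _ _
      map_smul' := fun c z => by simp [smul_dotProduct] }
  have hker : Submodule.span ℚ (Set.range aQ) ≤ LinearMap.ker L := by
    rw [Submodule.span_le]
    rintro _ ⟨i, rfl⟩
    show aQ i ⬝ᵥ (fun k => (x k : ℚ)) = 0
    have h2 := congrArg (fun z : ℤ => (z : ℚ)) (hx i)
    simpa [haQ, dotProduct] using h2
  have h3 : yQ ⬝ᵥ (fun k => (x k : ℚ)) = 0 := by rw [← hpp]; exact hker hp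
  have h4 : ((y ⬝ᵥ x : ℤ) : ℚ) = 0 := by rw [← h3]; simp [hyQ, dotProduct]
  exact_mod_cast h4

variable {T : Tbl} (hT : T.Valid)
include hT

/-- An element fixing the coordinate functionals outside a set lies in the parabolic subgroup. -/
theorem mem_parabolic {J : Set (Fin T.rank)} {u : Equiv.Perm (Fin T.n)} (hu : u ∈ T.WP hT)
    (hfix : ∀ i, i ∉ J → Pi.single i 1 ᵥ* mat T hT u = Pi.single i 1) :
    u ∈ Subgroup.closure (T.refP hT '' J) := by
  classical
  set ρ : Fin T.rank → ℤ := fun _ => 1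
  obtain ⟨y, hy, hdom⟩ := exists_dominant hT J (ρ ᵥ* mat T hT u)
  have hle : Subgroup.closure (T.refP hT '' J) ≤ T.WP hT :=
    (Subgroup.closure_le _).2 fun x ⟨j, _, hj⟩ => hj ▸ refP_mem hT j
  suffices u * y = 1 by
    rw [eq_inv_of_mul_eq_one_left this]
    exact inv_mem hy
  refine eq_one_of_pos hT (mul_mem hu (hle hy)) fun j => ?_
  by_contra hlt
  rw [not_le] at hlt
  obtain ⟨k, hk⟩ := Function.ne_iff.1 (co_ne_zero hT ((u * y) (T.simpF hT j)))
  have hnp : ∀ m : Fin T.rank, T.co ((u * y) (T.simpF hT j)).val m.val ≤ 0 := fun m => by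
    have := co_nonneg' hT (le_negF hlt) m.2
    rw [negF, co_neg hT (Fin.isLt _) m.2] at this
    omega
  by_cases hj : j ∈ J
  · have h1 := hdom j hj
    rw [Matrix.vecMul_vecMul, ← mat_mul hT hu, ← val_simple hT (_ ᵥ* mat T hT (u * y)) j,
      show T.simple j.val = (T.simpF hT j).val from rfl, ← val_perm hT (mul_mem hu (hle hy))] at h1
    have h2 : (∑ m : Fin T.rank, T.co ((u * y) (T.simpF hT j)).val m.val) < 0 := by
      refine Finset.sum_neg' (fun m _ => hnp m) ⟨k, Finset.mem_univ _, lt_of_le_of_ne (hnp k) ?_⟩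
      exact hk
    simp only [val, dotProduct, ρ, one_mul] at h1
    omega
  · have h1 : (Pi.single j 1 ᵥ* mat T hT (u * y)) j = 1 := by
      rw [mat_mul hT hu, ← Matrix.vecMul_vecMul, hfix j hj, fix_single hT hy hj, Pi.single_eq_same]
    rw [Matrix.single_one_vecMul] at h1
    have h3 := hnp j
    change T.co ((u * y) (T.simpF hT j)).val j.val ≤ 0 at h3
    change T.co ((u * y) (T.simpF hT j)).val j.val = 1 at h1
    omega

/-- A word leading to negative roots on a set of fundamental ones. -/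
def negWord (T : Tbl) (J : Finset (Fin T.rank)) : ℕ → List (Fin T.rank)
  | 0 => []
  | k + 1 =>
    let l := negWord T J k
    match ((List.finRange T.rank).find? fun j => decide (j ∈ J) &&
        Nat.ble T.half (wapp T (l.map Fin.val) (T.simple j.val))) with
    | some j => l ++ [j]
    | none => l

/-- An involution negating at least `k` dimensions. -/
theorem plane_case {v : Equiv.Perm (Fin T.n)} (hv : v ∈ T.WP hT) (h2 : mat T hT v * mat T hT v = 1)
    {k : ℕ} (a : Fin k → Fin T.rank → ℤ)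
    (ha : LinearIndependent ℚ fun i => fun m => ((a i m : ℤ) : ℚ)) (hav : ∀ i, a i ᵥ* mat T hT v = -a i)
    (J₀ : Finset (Fin T.rank)) (W : Finset (Fin T.rank) → List (Fin T.rank))
    (hW : ∀ J : Finset (Fin T.rank), k ≤ J.card → (∀ x ∈ W J, x ∈ J) ∧
      (∀ j ∈ J, wapp T ((W J).map Fin.val) (T.simple j.val) < T.half) ∧
      ((∀ j ∈ J, wapp T ((W J).map Fin.val) (T.simple j.val) = T.neg (T.simple j.val)) → J = J₀)) :
    ∃ g ∈ T.WP hT, g⁻¹ * v * g = T.pw hT (W J₀) := by
  classical
  set M := mat T hT v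
  -- a fixed functional killing only the roots killed by all fixed functionals
  set rows : Fin T.rank → Fin T.rank → ℤ := fun i => Pi.single i 1 ᵥ* (M + 1) with hrows
  have hrfix : ∀ i, rows i ᵥ* M = rows i := fun i => by
    rw [hrows, Matrix.vecMul_vecMul, Matrix.add_mul, h2, one_mul, add_comm]
  obtain ⟨t, ht⟩ : ∃ t : ℤ, ∀ s : Fin T.n, (∃ i, val T (rows i) s.val ≠ 0) →
      (∑ i : Fin T.rank, val T (rows i) s.val * t ^ (i : ℕ)) ≠ 0 := by
    let P : Fin T.n → ℤ[X] := fun s => ∑ i : Fin T.rank, C (val T (rows i) s.val) * X ^ (i : ℕ)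
    obtain ⟨t, ht⟩ := Infinite.exists_notMem_finset (Finset.univ.biUnion fun s => (P s).roots.toFinset)
    refine ⟨t, fun s ⟨i, hi⟩ h0 => ht (Finset.mem_biUnion.2 ⟨s, Finset.mem_univ _, ?_⟩)⟩
    rw [Multiset.mem_toFinset, mem_roots]
    · simpa [P, IsRoot, eval_finset_sum] using h0
    · intro hP
      have := congrArg (fun g => g.coeff (i : ℕ)) hP
      simp [P, coeff_X_pow, Fin.val_inj] at this
      exact hi this
  set μ0 : Fin T.rank → ℤ := ∑ i : Fin T.rank, t ^ (i : ℕ) • rows i with hμ0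
  have hμfix : μ0 ᵥ* M = μ0 := by
    rw [hμ0, Matrix.sum_vecMul]
    exact Finset.sum_congr rfl fun i _ => by rw [Matrix.smul_vecMul, hrfix]
  obtain ⟨g, hg, hdom⟩ := exists_dominant hT Set.univ μ0
  rw [Set.image_univ] at hg
  change g ∈ T.WP hT at hg
  set G := mat T hT g
  set v' := g⁻¹ * v * g with hv'def
  have hv' : v' ∈ T.WP hT := mul_mem (mul_mem (inv_mem hg) hv) hg
  have hgg : G * mat T hT g⁻¹ = 1 := by rw [← mat_mul hT hg, mul_inv_cancel, mat_one hT]
  have hgg' : mat T hT g⁻¹ * G = 1 := by rw [← mat_mul hT (inv_mem hg), inv_mul_cancel, mat_one hT]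
  have hM' : mat T hT v' = mat T hT g⁻¹ * M * G := by
    rw [hv'def, mat_mul hT (mul_mem (inv_mem hg) hv), mat_mul hT (inv_mem hg)]
  have hGM : G * mat T hT v' = M * G := by rw [hM', ← mul_assoc, ← mul_assoc, hgg, one_mul]
  set μ := μ0 ᵥ* G with hμ
  have hμ' : μ ᵥ* mat T hT v' = μ := by
    rw [hμ, Matrix.vecMul_vecMul, hGM, ← Matrix.vecMul_vecMul, hμfix]
  set J : Finset (Fin T.rank) := Finset.univ.filter fun j => μ j = 0 with hJ
  have hneg : ∀ j, μ j = 0 → v' (T.simpF hT j) = T.negF (T.simpF hT j) := by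
    intro j hj
    refine neg_col hT hv' ?_
    set s := g (T.simpF hT j)
    have hs : (fun m : Fin T.rank => T.co s.val m.val) = G *ᵥ Pi.single j 1 := by rw [mat_col hT hg]
    have h0 : ∀ i, val T (rows i) s.val = 0 := by
      by_contra hh
      push Not at hh
      refine ht s hh ?_
      rw [← hj, hμ, hμ0, Matrix.sum_vecMul, Finset.sum_apply]
      refine Finset.sum_congr rfl fun i _ => ?_
      rw [Matrix.smul_vecMul, Pi.smul_apply, smul_eq_mul, mul_comm, val, hs, Matrix.dotProduct_mulVec,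
        dotProduct_single, mul_one]
    have h1 : (M + 1) *ᵥ (G *ᵥ Pi.single j 1) = 0 := funext fun i => by
      rw [← hs, Pi.zero_apply, ← h0 i]
      simp [hrows, val, Matrix.mulVec, Matrix.row]
      rfl
    rw [Matrix.add_mulVec, Matrix.one_mulVec, Matrix.mulVec_mulVec, ← hGM, ← Matrix.mulVec_mulVec] at h1
    have h2 := congrArg (mat T hT g⁻¹ *ᵥ ·) h1
    simp only [Matrix.mulVec_add, Matrix.mulVec_zero, Matrix.mulVec_mulVec, hgg', ← mul_assoc, one_mul,
      Matrix.one_mulVec] at h2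
    exact eq_neg_of_add_eq_zero_left h2
  obtain ⟨z, hz, hzneg⟩ := exists_negator hT {j | μ j = 0}
  have hzW : z ∈ T.WP hT := (Subgroup.closure_mono (Set.image_subset_range _ _) hz : _)
  have hfix : ∀ {u}, u ∈ Subgroup.closure (T.refP hT '' {j | μ j = 0}) → μ ᵥ* mat T hT u = μ := by
    intro u hu
    conv_lhs => rw [pi_eq_sum_univ' μ]
    rw [Matrix.sum_vecMul]
    conv_rhs => rw [pi_eq_sum_univ' μ]
    refine Finset.sum_congr rfl fun m _ => ?_
    by_cases hm : μ m = 0
    · simp [hm]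
    · rw [Matrix.smul_vecMul, fix_single hT hu (i := m) hm]
  have hpos : ∀ i, 0 ≤ μ i := fun i => hdom i (Set.mem_univ i)
  have hzv : z * v' = 1 := eq_negator hT hv' hzW hpos hμ' (hfix hz) hneg fun j hj => hzneg j hj
  have hv'J : v' ∈ Subgroup.closure (T.refP hT '' {j | μ j = 0}) := by
    rw [eq_inv_of_mul_eq_one_right hzv]; exact inv_mem hz
  have hcard : k ≤ J.card := by
    have hb : LinearIndependent ℚ fun i : {i : Fin T.rank // i ∉ J} =>
        fun m => (((Pi.single i.1 (1 : ℤ) : Fin T.rank → ℤ) m : ℤ) : ℚ) := by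
      have : (fun i : {i : Fin T.rank // i ∉ J} => fun m => (((Pi.single i.1 (1 : ℤ) : Fin T.rank → ℤ) m : ℤ) : ℚ)) =
          (Pi.basisFun ℚ (Fin T.rank)) ∘ Subtype.val := by
        funext i m
        simp [Pi.single_apply, apply_ite (fun z : ℤ => (z : ℚ))]
      rw [this]
      exact (Pi.basisFun ℚ (Fin T.rank)).linearIndependent.comp _ Subtype.val_injective
    have ha' : LinearIndependent ℚ fun i => fun m => (((a i ᵥ* G) m : ℤ) : ℚ) := by
      have hinj : LinearMap.ker (Matrix.vecMulLinear (G.map (Int.castRingHom ℚ))) = ⊥ := by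
        rw [LinearMap.ker_eq_bot']
        intro x hx
        have := congrArg (fun z => z ᵥ* (mat T hT g⁻¹).map (Int.castRingHom ℚ)) hx
        rw [Matrix.vecMulLinear_apply, Matrix.vecMul_vecMul, ← Matrix.map_mul, hgg] at this
        simpa using this
      have : (fun i => fun m => (((a i ᵥ* G) m : ℤ) : ℚ)) =
          Matrix.vecMulLinear (G.map (Int.castRingHom ℚ)) ∘ fun i => fun m => ((a i m : ℤ) : ℚ) := by
        funext i m
        simp [Matrix.vecMul, dotProduct]
      rw [this]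
      exact ha.map' _ hinj
    have := (card_add_card_le (mat T hT v') (fun i => a i ᵥ* G)
      (fun i : {i : Fin T.rank // i ∉ J} => Pi.single i.1 1) ha' hb (fun i => by
        rw [Matrix.vecMul_vecMul, hGM, ← Matrix.vecMul_vecMul, hav, Matrix.neg_vecMul]) (fun i =>
        fix_single hT hv'J (fun h => i.2 (by simpa [hJ] using h)))).1
    rw [Fintype.card_fin, Fintype.card_subtype_compl, Fintype.card_coe, Fintype.card_fin] at this
    have := Finset.card_le_univ J
    rw [Fintype.card_fin] at this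
    omega
  obtain ⟨hW1, hW2, hW3⟩ := hW J hcard
  have hmem : T.pw hT (W J) ∈ Subgroup.closure (T.refP hT '' {j | μ j = 0}) := by
    refine list_prod_mem fun x hx => ?_
    obtain ⟨j, hj, rfl⟩ := List.mem_map.mp hx
    exact Subgroup.subset_closure ⟨j, by simpa [hJ] using hW1 j hj, rfl⟩
  have h3 := eq_negator hT hv' (pw_mem hT (W J)) hpos hμ' (hfix hmem) hneg fun j hj => by
    rw [pw_wapp hT]; exact hW2 j (by simp [hJ, hj])
  have h2' : mat T hT v' * mat T hT v' = 1 := by
    rw [hM', show mat T hT g⁻¹ * M * G * (mat T hT g⁻¹ * M * G) =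
      mat T hT g⁻¹ * M * (G * mat T hT g⁻¹) * M * G by simp only [mul_assoc],
      hgg, mul_one, mul_assoc (mat T hT g⁻¹), h2, mul_one, hgg']
  have hinv : v' = T.pw hT (W J) := by
    have h4 : v' * v' = 1 := mat_inj hT (mul_mem hv' hv') (one_mem _) (by
      rw [mat_mul hT hv', h2', mat_one hT])
    rw [← mul_one (T.pw hT (W J)), ← h4, ← mul_assoc, h3, one_mul]
  have hJ0 : J = J₀ := hW3 fun j hj => by
    have h5 := congrArg Fin.val (hneg j (by simpa [hJ] using hj))
    rwa [hinv, pw_wapp hT] at h5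
  exact ⟨g, hg, by rw [← hJ0]; exact hinv⟩

end CfsgLib.Chevalley.CoverTorus
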