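import Cfsg.Agent.Lib.Chevalley.SteinbergTorus
import Cfsg.Agent.Lib.KnownB.FieldAut.Fixed

/-!
Base change of the presented group; an element fixed by a field endomorphism maps into the group over
the fixed field, the torus of the presented group being faithful.
-/

set_option autoImplicit false

namespace CfsgLib.Chevalley.CoverTorus

open Tbl
open CfsgLib.KnownB.FieldAut (mapGL map_xU map_nw map_rootGen map_torus map_group)

variable {T : Tbl} {K L : Type*} [Field K] [Field L]

/-- The map on free groups. -/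
def freeMap (T : Tbl) (f : K →+* L) : FreeGroup (Fin T.datum.nroots × K) →* FreeGroup (Fin T.datum.nroots × L) :=
  FreeGroup.map fun p => (p.1, f p.2)

theorem freeMap_stX (f : K →+* L) (r : ℕ) (t : K) : freeMap T f (T.datum.stX r t) = T.datum.stX r (f t) := by
  unfold Cfsg.Lie.ChevalleyDatum.stX
  split
  · rw [freeMap, FreeGroup.map.of]
  · exact map_one _

theorem freeMap_stWord (f : K →+* L) (w : List (ℕ × K)) :
    freeMap T f (T.datum.stWord w) = T.datum.stWord (w.map fun p => (p.1, f p.2)) := by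
  rw [Cfsg.Lie.ChevalleyDatum.stWord, Cfsg.Lie.ChevalleyDatum.stWord, map_list_prod, List.map_map,
    List.map_map]
  exact congrArg List.prod (List.map_congr_left fun p _ => freeMap_stX f p.1 p.2)

theorem freeMap_stH (f : K →+* L) (r : ℕ) (t : K) : freeMap T f (T.datum.stH r t) = T.datum.stH r (f t) := by
  rw [Cfsg.Lie.ChevalleyDatum.stH, freeMap_stWord]
  simp [Cfsg.Lie.ChevalleyDatum.stH, Cfsg.Lie.ChevalleyDatum.hWord, Cfsg.Lie.ChevalleyDatum.nWord, map_inv₀]

theorem freeMap_rels (f : K →+* L) : ∀ g ∈ T.datum.steinbergRels K,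
    freeMap T f g ∈ T.datum.steinbergRels L := by
  rintro g ((⟨r, t₁, t₂, hr, rfl⟩ | ⟨r, s, t, u, hr, hs, hrs, hneg, rfl⟩) |
    ⟨r, t₁, t₂, hr, h₁, h₂, rfl⟩)
  · exact Or.inl (Or.inl ⟨r, f t₁, f t₂, hr, by
      rw [map_mul, map_mul, map_inv, freeMap_stX, freeMap_stX, freeMap_stX, map_add]⟩)
  · refine Or.inl (Or.inr ⟨r, s, f t, f u, hr, hs, hrs, hneg, ?_⟩)
    rw [map_mul, map_mul, map_mul, map_mul, map_inv, map_inv, map_inv, freeMap_stX, freeMap_stX, freeMap_stWord]
    simp [Cfsg.Lie.ChevalleyDatum.commWord, Function.comp_def, map_pow]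
  · exact Or.inr ⟨r, f t₁, f t₂, hr, (map_ne_zero f).2 h₁, (map_ne_zero f).2 h₂,
      by rw [map_mul, map_mul, map_inv, freeMap_stH, freeMap_stH, freeMap_stH, map_mul]⟩

/-- Base change of the presented group. -/
noncomputable def stMap (T : Tbl) (f : K →+* L) : T.datum.SteinbergGroup K →* T.datum.SteinbergGroup L :=
  PresentedGroup.toGroup (f := fun p => PresentedGroup.of (rels := T.datum.steinbergRels L) (p.1, f p.2))
    fun g hg => by
      have h : FreeGroup.lift (fun p : Fin T.datum.nroots × K =>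
          PresentedGroup.of (rels := T.datum.steinbergRels L) (p.1, f p.2)) =
          (PresentedGroup.mk _).comp (freeMap T f) := by
        ext p
        simp [freeMap, PresentedGroup.of]
      rw [h]
      exact PresentedGroup.one_of_mem (freeMap_rels f g hg)

theorem stMap_sX (f : K →+* L) {r : ℕ} (hr : r < T.n) (t : K) :
    stMap T f (T.sX K r t) = T.sX L r (f t) := by
  rw [sX, sX, Cfsg.Lie.ChevalleyDatum.stGen, Cfsg.Lie.ChevalleyDatum.stGen, Cfsg.Lie.ChevalleyDatum.stX,
    Cfsg.Lie.ChevalleyDatum.stX, dif_pos hr, dif_pos hr]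
  exact PresentedGroup.toGroup.of _

theorem stMap_sN (f : K →+* L) {r : ℕ} (hr : r < T.n) (t : K) :
    stMap T f (T.sN K r t) = T.sN L r (f t) := by
  simp only [sN, map_mul, stMap_sX f hr, stMap_sX f (neg_lt' hr), map_neg, map_inv₀]

theorem stMap_sGen (f : K →+* L) (P : ℕ → Prop) {x : T.datum.SteinbergGroup K} (hx : x ∈ T.sGen K P) :
    stMap T f x ∈ T.sGen L P := by
  induction hx using Subgroup.closure_induction with
  | mem y hy =>
    obtain ⟨r, hr, hP, t, rfl⟩ := hy
    rw [stMap_sX f hr]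
    exact sX_mem_sGen hr hP _
  | one => rw [map_one]; exact one_mem _
  | mul y z _ _ hy hz => rw [map_mul]; exact mul_mem hy hz
  | inv y _ hy => rw [map_inv]; exact inv_mem hy

variable (hO : T.StOk)
include hO

theorem stMap_snw (f : K →+* L) (l : List (Fin T.rank)) : stMap T f (T.snw K l) = T.snw L l := by
  induction l with
  | nil => exact map_one _
  | cons i l ih =>
    show stMap T f (T.sN K (T.simple i.val) 1 * T.snw K l) = _
    rw [map_mul, ih, stMap_sN f (simple_lt hO.valid i.2), map_one]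
    rfl

theorem stMap_sTorus (f : K →+* L) (c : Fin T.rank → Kˣ) :
    stMap T f (sTorus hO c) = sTorus hO fun i => Units.map (f : K →* L) (c i) := by
  have h : (stMap T f).comp (sTorus (F := K) hO) =
      (sTorus (F := L) hO).comp (MonoidHom.piMap fun _ : Fin T.rank => Units.map (f : K →* L)) := by
    refine MonoidHom.pi_ext fun i x => ?_
    show stMap T f (sTorus hO (Pi.mulSingle i x)) = _
    rw [sTorus_single, sH, map_mul, stMap_sN f (simple_lt hO.valid i.2),
      stMap_sN f (simple_lt hO.valid i.2), map_neg, map_one]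
    rw [MonoidHom.comp_apply, show (MonoidHom.piMap fun _ : Fin T.rank => Units.map (f : K →* L)) (Pi.mulSingle i x) =
      Pi.mulSingle i (Units.map (f : K →* L) x) from funext fun j => by
        rcases eq_or_ne j i with rfl | hj
        · simp
        · simp [Pi.mulSingle_eq_of_ne hj]]
    rw [sTorus_single]
    rfl
  exact DFunLike.congr_fun h c

theorem hom_stMap (f : K →+* L) (g : T.datum.SteinbergGroup K) :
    hO.hom L (stMap T f g) = mapGL T f (hO.hom K g) := by
  have h : (hO.hom L).comp (stMap T f) = (mapGL T f).comp (hO.hom K) := by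
    refine PresentedGroup.ext fun p => ?_
    have e : PresentedGroup.of (rels := T.datum.steinbergRels K) p = T.sX K p.1.val p.2 := by
      rw [sX, Cfsg.Lie.ChevalleyDatum.stGen, Cfsg.Lie.ChevalleyDatum.stX, dif_pos p.1.2]
      rfl
    rw [e]
    show hO.hom L (stMap T f (T.sX K p.1.val p.2)) = mapGL T f (hO.hom K (T.sX K p.1.val p.2))
    rw [stMap_sX f p.1.2, hom_sX hO p.1.2, hom_sX hO p.1.2, map_xU f hO.valid p.1.2]
  exact DFunLike.congr_fun h g

/-- A fixed element of the presented group maps into the group over the fixed field. -/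
theorem fixed_mem {F : Type*} [Field F] [Fintype K] (σ : K →+* K) (ι : F →+* K)
    (hfix : ∀ t, σ t = t ↔ t ∈ Set.range ι) (hinj : Function.Injective (sTorus (F := K) hO))
    {g : T.datum.SteinbergGroup K} (e : stMap T σ g = g) :
    hO.hom K g ∈ (T.datum.group F).map (mapGL T ι) := by
  classical
  have hT := hO.valid
  have hC := hO.comm
  obtain ⟨b, hb, n, hn, w, hw, hm, u, hu, hg⟩ := exists_canonical hT hC (hom_mem_group hO g)
  obtain ⟨l, rfl⟩ := exists_pw hT hw
  have hd : n * (T.nw K l)⁻¹ ∈ T.datum.diagonalSubgroup K := by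
    refine mem_diag_of_mono_one hT (mul_mem hn (inv_mem (nw_mem hT l))) ?_
    have := hm.mul (mono_nw (F := K) hT l).inv
    rwa [mul_inv_cancel] at this
  obtain ⟨u1, hu1, h, hh, he⟩ := (mem_borel_iff hT).mp
    (mul_mem hb (Subgroup.mem_sup_right hd) : b * (n * (T.nw K l)⁻¹) ∈ T.datum.borelSubgroup K)
  have hg' : hO.hom K g = u1 * h * T.nw K l * u := by rw [hg, ← he]; group
  -- lifts
  rw [posUnipotent_rootGen hT, ← stHom_sGen hT hC] at hu1
  obtain ⟨U1, hU1, rfl⟩ := hu1
  rw [← stHom_sGen hT hC] at hu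
  obtain ⟨U, hU, rfl⟩ := hu
  obtain ⟨c0, rfl⟩ : ∃ c, torusHom T K c = h := by
    rw [← MonoidHom.mem_range, torusHom_range hT]; exact hh
  have hhw : hO.hom K (T.snw K l) = T.nw K l := by
    rw [snw, map_list_prod, List.map_map, nw]
    exact congrArg List.prod (List.map_congr_left fun i _ => hom_sN hO (simple_lt hT i.2) 1)
  obtain ⟨c, hc, hcg⟩ : ∃ c, torusHom T K c = torusHom T K c0 ∧
      g = U1 * sTorus hO c * T.snw K l * U := by
    set g' := U1 * sTorus hO c0 * T.snw K l * U with hg'def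
    have hk : g * g'⁻¹ ∈ (hO.hom K).ker := by
      rw [MonoidHom.mem_ker, map_mul, map_inv, hg', hg'def, map_mul, map_mul, map_mul, hom_sTorus, hhw]
      exact mul_inv_cancel _
    have hz : g * g'⁻¹ ∈ Subgroup.center (T.datum.SteinbergGroup K) := by
      rw [← stProj_ker hO, MonoidHom.mem_ker]
      exact Subtype.ext (MonoidHom.mem_ker.1 hk)
    obtain ⟨z, hz'⟩ := sDiag_le_range hO (ker_le_sDiag hO hk)
    have hz1 : torusHom T K z = 1 := by rw [← hom_sTorus hO, hz', MonoidHom.mem_ker.1 hk]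
    refine ⟨z * c0, by rw [map_mul, hz1, one_mul], ?_⟩
    calc g = g * g'⁻¹ * (U1 * (sTorus hO c0 * T.snw K l * U)) := by rw [hg'def]; group
      _ = U1 * (g * g'⁻¹) * (sTorus hO c0 * T.snw K l * U) := by
        rw [← mul_assoc, ← Subgroup.mem_center_iff.1 hz U1]
      _ = _ := by rw [← hz', map_mul]; group
  rw [← hc] at hg'
  -- the canonical decomposition is fixed
  have e' := congrArg (hO.hom K) e
  rw [hom_stMap hO, hg', map_mul, map_mul, map_mul, map_nw σ hT, map_torus] at e'
  set u1 := stHom hT hC U1 with hu1def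
  set uu := stHom hT hC U
  have hu1p : u1 ∈ T.rootGen K (fun r => T.half ≤ r) := by rw [← stHom_sGen hT hC]; exact ⟨U1, hU1, rfl⟩
  have hup : uu ∈ T.rootGen K (T.negSet (T.pw hT l)) := by rw [← stHom_sGen hT hC]; exact ⟨U, hU, rfl⟩
  have hB : ∀ v ∈ T.rootGen K (fun r => T.half ≤ r), ∀ c : Fin T.rank → Kˣ,
      v * torusHom T K c ∈ T.datum.borelSubgroup K := fun v hv c =>
    mul_mem (Subgroup.mem_sup_left (by rw [posUnipotent_rootGen hT]; exact hv))
      (Subgroup.mem_sup_right (by rw [← torusHom_range hT]; exact ⟨c, rfl⟩))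
  have hu1' : mapGL T σ u1 ∈ T.rootGen K (fun r => T.half ≤ r) := map_rootGen σ hT _ ⟨u1, hu1p, rfl⟩
  obtain ⟨-, h2⟩ := canonical_unique hT hC (hB _ hu1' _) (hB _ hu1p c) (nw_mem hT l) (nw_mem hT l)
    (mono_nw hT l) (map_rootGen σ hT _ ⟨uu, hup, rfl⟩) hup e'
  obtain ⟨eb, eu⟩ := h2 (mono_nw hT l) rfl
  have h3 : u1⁻¹ * mapGL T σ u1 ∈ (⊥ : Subgroup (GL T.I K)) := by
    rw [← pos_inf_diag (T := T) (F := K) hT, posUnipotent_rootGen hT]
    refine Subgroup.mem_inf.mpr ⟨mul_mem (inv_mem hu1p) hu1', ?_⟩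
    have : u1⁻¹ * mapGL T σ u1 = torusHom T K c *
        (torusHom T K fun i => Units.map (σ : K →* K) (c i))⁻¹ := by
      rw [inv_mul_eq_iff_eq_mul, ← mul_assoc, ← eb, mul_inv_cancel_right]
    rw [this, ← torusHom_range hT]
    exact mul_mem ⟨c, rfl⟩ (inv_mem ⟨_, rfl⟩)
  rw [Subgroup.mem_bot, inv_mul_eq_one] at h3
  -- the lifts are fixed
  have eU1 : stMap T σ U1 = U1 := eq_of_sys hO (one_mem _) Mono.one (P := fun r => T.half ≤ r)
    (fun r hr => hr) (stMap_sGen σ _ hU1) hU1 (by rw [hom_stMap hO]; exact h3.symm)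
  have eU : stMap T σ U = U := eq_of_sys hO (one_mem _) Mono.one (P := T.negSet (T.pw hT l))
    (fun r ⟨_, hp, _⟩ => hp) (stMap_sGen σ _ hU) hU (by rw [hom_stMap hO]; exact eu)
  have ec : sTorus hO (fun i => Units.map (σ : K →* K) (c i)) = sTorus hO c := by
    have := e
    rw [hcg, map_mul, map_mul, map_mul, eU1, eU, stMap_snw hO, stMap_sTorus hO] at this
    exact mul_left_cancel (mul_right_cancel (mul_right_cancel this))
  have hcfix := hinj ec
  -- the parts over the fixed field
  have hU0 : ∀ v ∈ T.rootGen K (fun r => T.half ≤ r), mapGL T σ v = v →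
      v ∈ (T.datum.group F).map (mapGL T ι) := by
    intro v hv ev
    have h2n : T.half + T.half = T.n := (Nat.two_mul _).symm
    obtain ⟨f, rfl⟩ := exists_uProd hT hC T.half T.half h2n le_rfl v hv
    have em : mapGL T σ (T.uProd f T.half T.half) = T.uProd (fun r => σ (f r)) T.half T.half := by
      simp only [uProd, map_list_prod, List.map_map]
      refine congrArg List.prod (List.map_congr_left fun r hr => ?_)
      simp only [List.mem_range'_1] at hr
      exact map_xU σ hT (by omega) _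
    rw [em] at ev
    refine list_prod_mem fun x hx => ?_
    obtain ⟨r, hr, rfl⟩ := List.mem_map.mp hx
    simp only [List.mem_range'_1] at hr
    obtain ⟨t, ht⟩ := (hfix _).mp (uProd_inj hT hC T.half T.half h2n le_rfl _ _ ev r hr.1 (by omega))
    exact ⟨T.xU F r t, xU_mem_group hT (by omega) t, by rw [map_xU ι hT (by omega), ht]⟩
  rw [hg']
  refine mul_mem (mul_mem (mul_mem (hU0 u1 hu1p h3.symm) ?_) ?_)
    (hU0 uu (rootGen_mono (fun r _ ⟨_, hp, _⟩ => hp) hup) eu)
  · have : ∀ i, ∃ d : Fˣ, Units.map (ι : F →* K) d = c i := fun i => by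
      obtain ⟨t, ht⟩ := (hfix _).mp (congrArg Units.val (congrFun hcfix i))
      exact ⟨Units.mk0 t fun h0 => (c i).ne_zero (by rw [← ht, h0, map_zero]), Units.ext ht⟩
    choose d hd using this
    refine ⟨torusHom T F d, diag_le_group hT ?_, ?_⟩
    · rw [← torusHom_range hT]; exact ⟨d, rfl⟩
    · rw [map_torus, funext hd]
  · exact ⟨T.nw F l, monomial_le_group hT (nw_mem hT l), map_nw ι hT l⟩

end CfsgLib.Chevalley.CoverTorus
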